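import Cfsg.Agent.Forms.Symplectic
import Cfsg.Agent.MaxSub.SymplecticBasic

/-!
# Symplectic square roots of `-1` are conjugate to `J`
-/

set_option autoImplicit false
set_option linter.unusedSectionVars false

namespace CfsgLib.SpEight

open Matrix Module

local notation:max "mat" => Units.val

variable {F : Type*} [Field F] {m : ℕ}

/-- `J` as an invertible matrix. -/
noncomputable def unitJ (m : ℕ) (F : Type*) [Field F] : GL (Fin m ⊕ Fin m) F :=
  ⟨Matrix.J (Fin m) F, -Matrix.J (Fin m) F, by rw [Matrix.mul_neg, Matrix.J_squared, neg_neg],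
    by rw [Matrix.neg_mul, Matrix.J_squared, neg_neg]⟩

theorem unitJ_sq : unitJ m F * unitJ m F = -1 := Units.ext (by simp [unitJ, Matrix.J_squared])

theorem exists_sq_add_sq [Fintype F] (h2 : (2 : F) ≠ 0) (c : F) : ∃ a b : F, a * a + b * b = c := by
  obtain ⟨a, b, h⟩ := FiniteField.exists_root_sum_quadratic (R := F) (f := Polynomial.X ^ 2)
    (g := Polynomial.X ^ 2 - Polynomial.C c) (Polynomial.degree_X_pow 2) (Polynomial.degree_X_pow_sub_C (by decide) _)
    (FiniteField.odd_card_of_char_ne_two fun h => h2 (by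
      haveI : CharP F 2 := h ▸ ringChar.charP F
      exact_mod_cast CharP.cast_eq_zero F 2))
  exact ⟨a, b, by simp at h; linear_combination h⟩

/-- An orthonormal system for `ω(x ·, ·)` orthogonal to its image under `x`. -/
theorem exists_orthonormal [Fintype F] (h2 : (2 : F) ≠ 0) {x : GL (Fin m ⊕ Fin m) F} (hx : x ∈ Cfsg.spGL m F)
    (hx2 : x * x = -1) (k : ℕ) (U : Submodule F (Fin m ⊕ Fin m → F)) (hU : 2 * k ≤ finrank F U)
    (hinv : ∀ u ∈ U, mat x *ᵥ u ∈ U)
    (hnd : ∀ u ∈ U, u ≠ 0 → ∃ v ∈ U, Cfsg.sympForm m F (mat x *ᵥ u) v ≠ 0) :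
    ∃ e : Fin k → (Fin m ⊕ Fin m → F), (∀ i, e i ∈ U) ∧
      (∀ i j, Cfsg.sympForm m F (mat x *ᵥ e i) (e j) = if i = j then 1 else 0) ∧
      ∀ i j, Cfsg.sympForm m F (e i) (e j) = 0 := by
  classical
  have hs := MaxSub.sesq_sympForm (m := m) (F := F)
  have hxx : ∀ u, mat x *ᵥ (mat x *ᵥ u) = -u := fun u => by
    rw [mulVec_mulVec, ← Units.val_mul, hx2, Units.val_neg, Units.val_one, neg_mulVec, one_mulVec]
  have hneg : ∀ u v, Cfsg.sympForm m F (-u) v = -Cfsg.sympForm m F u v := fun u v => by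
    rw [← neg_one_smul F u, hs.smul_left]; ring
  have hsym : ∀ u v, Cfsg.sympForm m F (mat x *ᵥ u) v = Cfsg.sympForm m F (mat x *ᵥ v) u := fun u v => by
    rw [← MaxSub.mem_spGL_iff.1 hx (mat x *ᵥ u) v, hxx, hneg, Forms.sympForm_swap, neg_neg]
  have hxs : ∀ u v, Cfsg.sympForm m F (mat x *ᵥ u) (mat x *ᵥ v) = Cfsg.sympForm m F u v :=
    MaxSub.mem_spGL_iff.1 hx
  induction k generalizing U with
  | zero => exact ⟨Fin.elim0, fun i => i.elim0, fun i => i.elim0, fun i => i.elim0⟩
  | succ k ih =>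
    obtain ⟨a, ha, haa⟩ : ∃ a ∈ U, Cfsg.sympForm m F (mat x *ᵥ a) a ≠ 0 := by
      by_contra h
      push Not at h
      obtain ⟨u, hu, hu0⟩ := Submodule.exists_mem_ne_zero_of_ne_bot (p := U) fun e => by
        rw [e, finrank_bot] at hU; omega
      obtain ⟨v, hv, hv'⟩ := hnd u hu hu0
      refine hv' ?_
      have e := h (u + v) (U.add_mem hu hv)
      rw [mulVec_add, hs.add_left, hs.add_right, hs.add_right, h u hu, h v hv, hsym v u, zero_add, add_zero,
        ← two_mul] at e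
      exact (mul_eq_zero.1 e).resolve_left h2
    obtain ⟨α, β, hαβ⟩ := exists_sq_add_sq h2 (Cfsg.sympForm m F (mat x *ᵥ a) a)⁻¹
    obtain ⟨e, he⟩ : ∃ e, e = α • a + β • (mat x *ᵥ a) := ⟨_, rfl⟩
    have heU : e ∈ U := he ▸ U.add_mem (U.smul_mem _ ha) (U.smul_mem _ (hinv a ha))
    have he1 : Cfsg.sympForm m F (mat x *ᵥ e) e = 1 := by
      rw [he, mulVec_add, mulVec_smul, mulVec_smul, hxx, hs.add_left, hs.add_right, hs.add_right]
      simp only [hs.smul_left, hs.smul_right, RingEquiv.refl_apply, hneg, Forms.sympForm_self,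
        Forms.sympForm_swap (mat x *ᵥ a) a, mul_zero, neg_zero, add_zero, zero_add, neg_neg]
      rw [← inv_mul_cancel₀ haa, ← hαβ]
      ring
    let f : (Fin m ⊕ Fin m → F) →ₗ[F] F × F :=
      { toFun := fun v => (Cfsg.sympForm m F (mat x *ᵥ e) v, Cfsg.sympForm m F e v)
        map_add' := fun u v => Prod.ext (hs.add_right _ _ _) (hs.add_right _ _ _)
        map_smul' := fun c v => Prod.ext (hs.smul_right _ _ _) (hs.smul_right _ _ _) }
    obtain ⟨U', hU'⟩ : ∃ U', U' = U ⊓ LinearMap.ker f := ⟨_, rfl⟩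
    have mem' : ∀ {v}, v ∈ U' ↔ v ∈ U ∧ Cfsg.sympForm m F (mat x *ᵥ e) v = 0 ∧ Cfsg.sympForm m F e v = 0 :=
      fun {v} => by simp [hU', f, Prod.ext_iff]
    have hinv' : ∀ u ∈ U', mat x *ᵥ u ∈ U' := fun u hu => by
      obtain ⟨h1, h3, h4⟩ := mem'.1 hu
      refine mem'.2 ⟨hinv u h1, by rw [hxs, h4], ?_⟩
      rw [← hxs e, hxx, ← neg_one_smul F u, hs.smul_right, h3, mul_zero]
    have hrank : 2 * k ≤ finrank F U' := by
      have h1 := LinearMap.finrank_range_add_finrank_ker (f.comp U.subtype)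
      have h3 : finrank F (LinearMap.ker (f.comp U.subtype)) = finrank F U' := by
        rw [LinearMap.ker_comp, hU', ← Submodule.map_comap_subtype, Submodule.finrank_map_subtype_eq]
      have h4 : finrank F (LinearMap.range (f.comp U.subtype)) ≤ 2 :=
        (Submodule.finrank_le _).trans_eq (by simp)
      omega
    obtain ⟨E, hEU, hE1, hE2⟩ := ih U' hrank hinv' fun u hu hu0 => by
      obtain ⟨hu1, hu2, hu3⟩ := mem'.1 hu
      obtain ⟨v, hv, hv'⟩ := hnd u hu1 hu0
      obtain ⟨v', hv'e⟩ : ∃ v', v' = v - (Cfsg.sympForm m F (mat x *ᵥ e) v) • e -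
          (Cfsg.sympForm m F e v) • -(mat x *ᵥ e) := ⟨_, rfl⟩
      have hxe : Cfsg.sympForm m F e (mat x *ᵥ e) = -1 := by rw [Forms.sympForm_swap, he1]
      have hne : -(mat x *ᵥ e) = (-1 : F) • (mat x *ᵥ e) := (neg_one_smul F _).symm
      refine ⟨v', mem'.2 ⟨hv'e ▸ U.sub_mem (U.sub_mem hv (U.smul_mem _ heU)) (U.smul_mem _ (U.neg_mem (hinv e heU))),
        ?_, ?_⟩, ?_⟩
      · rw [hv'e, hne, hs.sub_right, hs.sub_right, hs.smul_right, hs.smul_right, hs.smul_right, he1,
          Forms.sympForm_self]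
        simp
      · rw [hv'e, hne, hs.sub_right, hs.sub_right, hs.smul_right, hs.smul_right, hs.smul_right, hxe,
          Forms.sympForm_self]
        simp
      · rw [hv'e, hne, hs.sub_right, hs.sub_right, hs.smul_right, hs.smul_right, hs.smul_right, hsym u e, hu2,
          hxs, Forms.sympForm_swap e u, hu3, neg_zero]
        simpa using hv'
    refine ⟨Fin.cons e E, Fin.cases heU fun i => (mem'.1 (hEU i)).1, fun i j => ?_, fun i j => ?_⟩
    · refine Fin.cases ?_ (fun i => ?_) i <;> refine Fin.cases ?_ (fun j => ?_) j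
      · simpa using he1
      · simpa [(Fin.succ_ne_zero j).symm] using (mem'.1 (hEU j)).2.1
      · rw [if_neg (Fin.succ_ne_zero i), Fin.cons_succ, Fin.cons_zero, hsym]
        exact (mem'.1 (hEU i)).2.1
      · simpa using hE1 i j
    · refine Fin.cases ?_ (fun i => ?_) i <;> refine Fin.cases ?_ (fun j => ?_) j
      · simpa using Forms.sympForm_self e
      · simpa using (mem'.1 (hEU j)).2.2
      · rw [Fin.cons_succ, Fin.cons_zero, Forms.sympForm_swap, (mem'.1 (hEU i)).2.2, neg_zero]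
      · simpa using hE2 i j

/-- A symplectic square root of `-1` is conjugate to `J` in the symplectic group. -/
theorem exists_conj_unitJ [Fintype F] (h2 : (2 : F) ≠ 0) {x : GL (Fin m ⊕ Fin m) F} (hx : x ∈ Cfsg.spGL m F)
    (hx2 : x * x = -1) : ∃ g ∈ Cfsg.spGL m F, g * unitJ m F * g⁻¹ = x := by
  classical
  have hs := MaxSub.sesq_sympForm (m := m) (F := F)
  have hxx : ∀ u, mat x *ᵥ (mat x *ᵥ u) = -u := fun u => by
    rw [mulVec_mulVec, ← Units.val_mul, hx2, Units.val_neg, Units.val_one, neg_mulVec, one_mulVec]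
  obtain ⟨e, -, h1, h3⟩ := exists_orthonormal h2 hx hx2 m ⊤ (by rw [finrank_top, finrank_pi]; simp; omega)
    (fun _ _ => trivial) fun u _ hu0 => by
      by_contra h
      push Not at h
      refine hu0 ?_
      have := congrArg (mat x *ᵥ ·) (Forms.sympForm_sep (mat x *ᵥ u) fun v => h v trivial)
      simpa [hxx] using this
  let P : Matrix (Fin m ⊕ Fin m) (Fin m ⊕ Fin m) F :=
    Matrix.of fun k s => Sum.elim e (fun i => mat x *ᵥ e i) s k
  have hPl : ∀ s, P *ᵥ Pi.single s 1 = Sum.elim e (fun i => mat x *ᵥ e i) s := fun s => by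
    rw [mulVec_single_one]; rfl
  have hform : ∀ u v, Cfsg.sympForm m F (P *ᵥ u) (P *ᵥ v) = Cfsg.sympForm m F u v := by
    have h : (Forms.sympBilin m F).compl₁₂ (Matrix.toLin' P) (Matrix.toLin' P) = Forms.sympBilin m F := by
      refine LinearMap.BilinForm.ext_basis (Pi.basisFun F _) fun i j => ?_
      rw [Pi.basisFun_apply, Pi.basisFun_apply, LinearMap.compl₁₂_apply, toLin'_apply, toLin'_apply, hPl, hPl,
        Forms.sympBilin_apply, Forms.sympBilin_apply]
      rcases i with i | i <;> rcases j with j | j <;> simp only [Sum.elim_inl, Sum.elim_inr]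
      · rw [h3]; simp [Forms.sympForm_single_inl]
      · rw [Forms.sympForm_swap, h1, Forms.sympForm_single_inr]; simp [Pi.single_apply, eq_comm]
      · rw [h1, Forms.sympForm_single_inl]; simp [Pi.single_apply, eq_comm]
      · rw [MaxSub.mem_spGL_iff.1 hx, h3]; simp [Forms.sympForm_single_inr]
    intro u v
    rw [← Forms.sympBilin_apply u v]
    conv_rhs => rw [← h]
    rw [LinearMap.compl₁₂_apply, toLin'_apply, toLin'_apply, Forms.sympBilin_apply]
  obtain ⟨g, hg⟩ : ∃ g : GL (Fin m ⊕ Fin m) F, mat g = P := by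
    let A : Matrix.symplecticGroup (Fin m) F := ⟨P, Forms.mem_symplecticGroup_iff_form.2 hform⟩
    exact ⟨⟨A.1, (A⁻¹).1, by rw [← Submonoid.coe_mul, mul_inv_cancel]; rfl,
      by rw [← Submonoid.coe_mul, inv_mul_cancel]; rfl⟩, rfl⟩
  refine ⟨g, MaxSub.mem_spGL_iff.2 (by rw [hg]; exact hform), ?_⟩
  rw [mul_inv_eq_iff_eq_mul]
  refine Units.ext (Matrix.ext_of_mulVec_single fun s => ?_)
  rw [Units.val_mul, Units.val_mul, hg, ← mulVec_mulVec, ← mulVec_mulVec, hPl]
  rcases s with i | i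
  · have : mat (unitJ m F) *ᵥ Pi.single (Sum.inl i) 1 = Pi.single (Sum.inr i) 1 := by
      funext s; rcases s with j | j <;> simp [unitJ, Matrix.J, Pi.single_apply, Matrix.one_apply]
    rw [this, hPl]; rfl
  · have : mat (unitJ m F) *ᵥ Pi.single (Sum.inr i) 1 = -Pi.single (Sum.inl i) 1 := by
      funext s; rcases s with j | j <;> simp [unitJ, Matrix.J, Pi.single_apply, Matrix.one_apply]
    rw [this, mulVec_neg, hPl]
    exact (hxx _).symm

end CfsgLib.SpEight
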