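import Cfsg.Agent.SpEight.Standard

/-!
# The centraliser of `J` in `Sp₂ₘ` inside `GLₘ` over a field with a square root of `-1`
-/

set_option autoImplicit false
set_option linter.unusedSectionVars false

namespace CfsgLib.SpEight

open Matrix

local notation:max "mat" => Units.val

variable {F L : Type*} [Field F] [Field L] {m : ℕ}

local notation "ι" => (Fin m ⊕ Fin m)

/-- The centraliser of `J` in the symplectic group. -/
noncomputable def centJ (m : ℕ) (F : Type*) [Field F] : Subgroup (GL (Fin m ⊕ Fin m) F) :=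
  Cfsg.spGL m F ⊓ Subgroup.centralizer {unitJ m F}

theorem mem_centJ {g : GL ι F} : g ∈ centJ m F ↔ g ∈ Cfsg.spGL m F ∧ g * unitJ m F = unitJ m F * g := by
  rw [centJ, Subgroup.mem_inf, Subgroup.mem_centralizer_singleton_iff]

/-- The combination `A + c B` of the upper blocks. -/
def thetaMat (ψ : F →+* L) (c : L) (M : Matrix ι ι F) : Matrix (Fin m) (Fin m) L :=
  M.toBlocks₁₁.map ψ + c • M.toBlocks₁₂.map ψ

theorem blocks_of_comm {g : GL ι F} (h : g * unitJ m F = unitJ m F * g) :
    mat g = fromBlocks (mat g).toBlocks₁₁ (mat g).toBlocks₁₂ (-(mat g).toBlocks₁₂) (mat g).toBlocks₁₁ := by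
  have e := congrArg Units.val h
  rw [Units.val_mul, Units.val_mul, ← fromBlocks_toBlocks (mat g)] at e
  simp only [unitJ, Matrix.J, fromBlocks_multiply, Matrix.mul_zero, Matrix.zero_mul, Matrix.mul_one, Matrix.one_mul,
    Matrix.mul_neg, Matrix.neg_mul, zero_add, add_zero, fromBlocks_inj] at e
  obtain ⟨e1, e2, -, -⟩ := e
  conv_lhs => rw [← fromBlocks_toBlocks (mat g)]
  rw [fromBlocks_inj]
  refine ⟨rfl, rfl, by rw [e1, neg_neg], (neg_inj.1 e2).symm⟩

theorem orth_of_mem {g : GL ι F} (hg : g ∈ centJ m F) :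
    ((mat g).toBlocks₁₁)ᵀ * (mat g).toBlocks₁₁ + ((mat g).toBlocks₁₂)ᵀ * (mat g).toBlocks₁₂ = 1 ∧
      ((mat g).toBlocks₁₁)ᵀ * (mat g).toBlocks₁₂ = ((mat g).toBlocks₁₂)ᵀ * (mat g).toBlocks₁₁ := by
  obtain ⟨hS, hc⟩ := mem_centJ.1 hg
  have e := SymplecticGroup.mem_iff'.1 (Forms.mem_symplecticGroup_iff_form.2 (MaxSub.mem_spGL_iff.1 hS))
  rw [blocks_of_comm hc] at e
  simp only [Matrix.J, fromBlocks_transpose, fromBlocks_multiply, Matrix.mul_zero, Matrix.zero_mul, Matrix.mul_one,
    Matrix.one_mul, Matrix.mul_neg, Matrix.neg_mul, zero_add, add_zero, transpose_neg, neg_neg, fromBlocks_inj] at e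
  obtain ⟨e1, e2, -, -⟩ := e
  refine ⟨?_, ?_⟩
  · have := congrArg Neg.neg e2
    rw [neg_neg] at this
    rw [← this]
    abel
  · rw [← sub_eq_zero]
    rw [← e1]
    abel

variable {ψ : F →+* L} {c : L} (hc : c * c = -1)
include hc

theorem thetaMat_mul {g h : GL ι F} (hh : h * unitJ m F = unitJ m F * h) :
    thetaMat ψ c (mat g * mat h) = thetaMat ψ c (mat g) * thetaMat ψ c (mat h) := by
  conv_lhs => rw [← fromBlocks_toBlocks (mat g), blocks_of_comm hh, fromBlocks_multiply]
  simp only [thetaMat, toBlocks_fromBlocks₁₁, toBlocks_fromBlocks₁₂, Matrix.add_mul, Matrix.mul_add,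
    Matrix.smul_mul, Matrix.mul_smul, smul_add, smul_neg, smul_smul, hc, Matrix.map_add _ (map_add ψ), Matrix.map_mul, Matrix.mul_neg,
    smul_add]
  simp only [Matrix.map_neg _ (map_neg ψ), Matrix.map_mul, neg_smul, one_smul, smul_neg]
  abel

omit hc in
theorem thetaMat_one : thetaMat ψ c (1 : Matrix ι ι F) = 1 := by
  rw [thetaMat, ← fromBlocks_one, toBlocks_fromBlocks₁₁, toBlocks_fromBlocks₁₂, Matrix.map_zero _ (map_zero ψ),
    smul_zero, add_zero, Matrix.map_one _ (map_zero ψ) (map_one ψ)]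

/-- `θ (A, B) = A + c B`. -/
noncomputable def theta (ψ : F →+* L) (c : L) (hc : c * c = -1) : ↥(centJ m F) →* GL (Fin m) L :=
  MonoidHom.toHomUnits
    { toFun := fun g => thetaMat ψ c (mat (g : GL ι F))
      map_one' := by simp [thetaMat_one]
      map_mul' := fun g h => by
        rw [Subgroup.coe_mul, Units.val_mul]
        exact thetaMat_mul hc (mem_centJ.1 h.2).2 }

theorem theta_val (g : ↥(centJ m F)) :
    mat (theta ψ c hc g) = thetaMat ψ c (mat (g : GL ι F)) := rfl

theorem theta_transpose (g : ↥(centJ m F)) :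
    (mat (theta ψ c hc g))ᵀ * thetaMat ψ (-c) (mat (g : GL ι F)) = 1 := by
  obtain ⟨h1, h2⟩ := orth_of_mem g.2
  obtain ⟨A, hA⟩ : ∃ A, A = (mat (g : GL ι F)).toBlocks₁₁ := ⟨_, rfl⟩
  obtain ⟨B, hB⟩ : ∃ B, B = (mat (g : GL ι F)).toBlocks₁₂ := ⟨_, rfl⟩
  rw [← hA, ← hB] at h1 h2
  rw [theta_val, thetaMat, thetaMat, ← hA, ← hB]
  have e1 := congrArg (fun M : Matrix (Fin m) (Fin m) F => M.map ψ) h1
  have e2 := congrArg (fun M : Matrix (Fin m) (Fin m) F => M.map ψ) h2
  simp only [Matrix.map_add _ (map_add ψ), Matrix.map_mul, Matrix.map_one _ (map_zero ψ) (map_one ψ),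
    Matrix.transpose_map] at e1 e2
  simp only [transpose_add, transpose_smul, Matrix.add_mul, Matrix.mul_add, Matrix.smul_mul, Matrix.mul_smul, smul_add, smul_neg,
    smul_smul, neg_smul, Matrix.neg_mul, Matrix.mul_neg]
  rw [← e1, hc, e2]
  simp only [neg_smul, one_smul]
  abel

theorem det_theta_transpose (g : ↥(centJ m F)) :
    (mat (theta ψ c hc g)).det * (thetaMat ψ (-c) (mat (g : GL ι F))).det = 1 := by
  rw [← det_transpose (mat (theta ψ c hc g)), ← det_mul, theta_transpose hc, det_one]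

theorem theta_injective (h2 : (2 : F) ≠ 0) : Function.Injective (theta (m := m) ψ c hc) := by
  refine (injective_iff_map_eq_one _).2 fun g hg => Subtype.ext (Units.ext ?_)
  have h := theta_transpose (ψ := ψ) hc g
  have hg' : mat (theta ψ c hc g) = 1 := by rw [hg]; rfl
  rw [hg', transpose_one, one_mul] at h
  rw [theta_val] at hg'
  simp only [thetaMat] at h hg'
  have h2L : (2 : L) ≠ 0 := by rw [← map_ofNat ψ 2]; exact (map_ne_zero _).2 h2
  have hc0 : c ≠ 0 := fun e => by simp [e] at hc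
  have eA : (mat (g : GL ι F)).toBlocks₁₁ = 1 := by
    ext i j
    refine ψ.injective ?_
    have a := congrFun (congrFun hg' i) j
    have b := congrFun (congrFun h i) j
    have e1 : ψ ((1 : Matrix (Fin m) (Fin m) F) i j) = (1 : Matrix (Fin m) (Fin m) L) i j := by
      rw [Matrix.one_apply, Matrix.one_apply]; split_ifs <;> simp
    simp at a b
    rw [e1]
    refine mul_left_cancel₀ h2L ?_
    linear_combination a + b
  have eB : (mat (g : GL ι F)).toBlocks₁₂ = 0 := by
    ext i j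
    refine ψ.injective ?_
    have a := congrFun (congrFun hg' i) j
    have b := congrFun (congrFun h i) j
    simp at a b ⊢
    have : (2 : L) * c * ψ ((mat (g : GL ι F)).toBlocks₁₂ i j) = 0 := by linear_combination a - b
    simpa [h2L, hc0] using this
  rw [blocks_of_comm (mem_centJ.1 g.2).2, eA, eB, neg_zero, fromBlocks_one]
  rfl

omit hc in
theorem unitJ_mem : unitJ m F ∈ centJ m F := mem_centJ.2 ⟨MaxSub.mem_spGL_iff.2
  (Forms.mem_symplecticGroup_iff_form.1 (SymplecticGroup.J_mem _ _)), rfl⟩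

theorem theta_unitJ : mat (theta ψ c hc ⟨unitJ m F, unitJ_mem⟩) = (-c) • (1 : Matrix (Fin m) (Fin m) L) := by
  rw [theta_val, thetaMat]
  simp only [unitJ, Matrix.J, toBlocks_fromBlocks₁₁, toBlocks_fromBlocks₁₂]
  ext i j
  by_cases h : i = j <;> simp [h]

/-- An element anticommuting with `J` turns `θ` into `θ'`. -/
theorem det_theta_conj {y : GL ι F} (hy : y * unitJ m F = -(unitJ m F * y)) (hy2 : y * y = 1 ∨ y * y = -1)
    (g h : ↥(centJ m F)) (hh : y * (g : GL ι F) = (h : GL ι F) * y) :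
    (mat (theta ψ c hc h)).det = (thetaMat ψ (-c) (mat (g : GL ι F))).det := by
  have e := congrArg Units.val hy
  rw [Units.val_mul, Units.val_neg, Units.val_mul, ← fromBlocks_toBlocks (mat y)] at e
  simp only [unitJ, Matrix.J, fromBlocks_multiply, Matrix.mul_zero, Matrix.zero_mul, Matrix.mul_one, Matrix.one_mul,
    Matrix.mul_neg, Matrix.neg_mul, zero_add, add_zero, fromBlocks_neg, fromBlocks_inj, neg_neg] at e
  obtain ⟨e1, e2, -, -⟩ := e
  obtain ⟨P, hP⟩ : ∃ P, P = (mat y).toBlocks₁₁ := ⟨_, rfl⟩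
  obtain ⟨Q, hQ⟩ : ∃ Q, Q = (mat y).toBlocks₁₂ := ⟨_, rfl⟩
  have hyb : mat y = fromBlocks P Q Q (-P) := by
    conv_lhs => rw [← fromBlocks_toBlocks (mat y)]
    rw [fromBlocks_inj, hP, hQ]
    refine ⟨rfl, rfl, e1.symm, ?_⟩
    rw [← e2]
  have hgh := congrArg Units.val hh
  rw [Units.val_mul, Units.val_mul, hyb, blocks_of_comm (mem_centJ.1 g.2).2, blocks_of_comm (mem_centJ.1 h.2).2,
    fromBlocks_multiply, fromBlocks_multiply, fromBlocks_inj] at hgh
  obtain ⟨g1, g2, -, -⟩ := hgh
  obtain ⟨π, hπ⟩ : ∃ π : Matrix (Fin m) (Fin m) L, π = P.map ψ + (-c) • Q.map ψ := ⟨_, rfl⟩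
  have hkey : mat (theta ψ c hc h) * π = π * thetaMat ψ (-c) (mat (g : GL ι F)) := by
    have g1' := congrArg (fun M : Matrix (Fin m) (Fin m) F => M.map ψ) g1
    have g2' := congrArg (fun M : Matrix (Fin m) (Fin m) F => M.map ψ) g2
    simp only [Matrix.map_add _ (map_add ψ), Matrix.map_mul, Matrix.map_neg _ (map_neg ψ), Matrix.mul_neg] at g1' g2'
    rw [hπ, theta_val, thetaMat, thetaMat]
    simp only [Matrix.add_mul, Matrix.mul_add, Matrix.smul_mul, Matrix.mul_smul, smul_add, smul_neg, smul_smul, mul_neg, neg_mul,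
      neg_neg, neg_smul, hc, one_smul, smul_neg, Matrix.neg_mul, Matrix.mul_neg]
    have g2'' := congrArg (fun M : Matrix (Fin m) (Fin m) L => c • M) g2'
    simp only [smul_add, smul_neg] at g2''
    linear_combination (norm := abel) g2'' - g1'
  have hdet : π.det ≠ 0 := by
    obtain ⟨ε, hε, hy'⟩ : ∃ ε : F, ε ≠ 0 ∧ mat y * mat y = ε • (1 : Matrix ι ι F) := by
      rcases hy2 with h | h
      · exact ⟨1, one_ne_zero, by rw [← Units.val_mul, h]; simp⟩
      · exact ⟨-1, neg_ne_zero.2 one_ne_zero, by rw [← Units.val_mul, h]; simp⟩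
    rw [hyb, fromBlocks_multiply, ← fromBlocks_one, fromBlocks_smul, fromBlocks_inj] at hy'
    obtain ⟨y1, y2, -, -⟩ := hy'
    have y1' := congrArg (fun M : Matrix (Fin m) (Fin m) F => M.map ψ) y1
    have y2' := congrArg (fun M : Matrix (Fin m) (Fin m) F => M.map ψ) y2
    simp only [Matrix.map_add _ (map_add ψ), Matrix.map_mul, Matrix.map_neg _ (map_neg ψ), Matrix.mul_neg,
      smul_zero, Matrix.map_zero _ (map_zero ψ)] at y1' y2'
    have hprod : π * (P.map ψ + c • Q.map ψ) = (ψ ε) • (1 : Matrix (Fin m) (Fin m) L) := by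
      rw [hπ]
      simp only [Matrix.add_mul, Matrix.mul_add, Matrix.smul_mul, Matrix.mul_smul, smul_add, smul_neg, smul_smul, mul_neg, neg_mul,
        neg_neg, neg_smul, hc, one_smul, smul_neg, Matrix.neg_mul, Matrix.mul_neg]
      have y2'' := congrArg (fun M : Matrix (Fin m) (Fin m) L => c • M) y2'
      simp only [smul_add, smul_neg, smul_zero] at y2''
      have e3 : ((ε • (1 : Matrix (Fin m) (Fin m) F))).map ψ = (ψ ε) • (1 : Matrix (Fin m) (Fin m) L) := by
        ext i j; by_cases h : i = j <;> simp [h]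
      rw [e3] at y1'
      linear_combination (norm := abel) y1' + y2''
    intro h0
    have := congrArg Matrix.det hprod
    rw [det_mul, h0, zero_mul, det_smul, det_one, mul_one] at this
    exact pow_ne_zero _ ((map_ne_zero ψ).2 hε) this.symm
  have := congrArg Matrix.det hkey
  rw [det_mul, det_mul, mul_comm π.det] at this
  exact mul_right_cancel₀ hdet this

/-- Lifting. -/
theorem exists_lift (h2 : (2 : F) ≠ 0) {a : GL (Fin m) L} {A B : Matrix (Fin m) (Fin m) F}
    {a' : Matrix (Fin m) (Fin m) L} (ha' : (mat a)ᵀ * a' = 1) (hA : A.map ψ + c • B.map ψ = mat a)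
    (hB : A.map ψ + (-c) • B.map ψ = a') : ∃ g : ↥(centJ m F), theta ψ c hc g = a := by
  have ha'' : a'ᵀ * mat a = 1 := by
    have := congrArg Matrix.transpose ha'
    rwa [transpose_mul, transpose_transpose, transpose_one] at this
  rw [← hA, ← hB] at ha' ha''
  simp only [transpose_add, transpose_smul, Matrix.add_mul, Matrix.mul_add, Matrix.smul_mul, Matrix.mul_smul, smul_add, smul_neg,
    smul_smul, mul_neg, neg_mul, neg_neg, neg_smul, hc, one_smul, smul_neg, transpose_neg, Matrix.neg_mul,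
    Matrix.mul_neg] at ha' ha''
  have h2L : (2 : L) ≠ 0 := by rw [← map_ofNat ψ 2]; exact (map_ne_zero _).2 h2
  have hc0 : c ≠ 0 := fun e => by simp [e] at hc
  have hinj := Matrix.map_injective (m := Fin m) (n := Fin m) ψ.injective
  have h1 : Aᵀ * A + Bᵀ * B = 1 := hinj (by
    simp only [Matrix.map_add _ (map_add ψ), Matrix.map_mul, Matrix.map_one _ (map_zero ψ) (map_one ψ),
      Matrix.transpose_map]
    refine smul_right_injective (Matrix (Fin m) (Fin m) L) h2L ?_
    show (2 : L) • _ = (2 : L) • _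
    rw [two_smul, two_smul]
    linear_combination (norm := abel) ha' + ha'')
  have h3 : Aᵀ * B = Bᵀ * A := hinj (by
    simp only [Matrix.map_mul, Matrix.transpose_map]
    refine smul_right_injective (Matrix (Fin m) (Fin m) L) (mul_ne_zero h2L hc0) ?_
    show (2 * c : L) • _ = (2 * c : L) • _
    simp only [mul_smul, two_smul]
    linear_combination (norm := abel) ha'' - ha')
  have hmem : fromBlocks A B (-B) A ∈ Matrix.symplecticGroup (Fin m) F := by
    rw [SymplecticGroup.mem_iff']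
    simp only [Matrix.J, fromBlocks_transpose, fromBlocks_multiply, Matrix.mul_zero, Matrix.zero_mul, Matrix.mul_one,
      Matrix.one_mul, Matrix.mul_neg, Matrix.neg_mul, zero_add, add_zero, transpose_neg, neg_neg, fromBlocks_inj]
    refine ⟨?_, ?_, ?_, ?_⟩
    · linear_combination (norm := abel) h3
    · rw [← h1]; abel
    · linear_combination (norm := abel) h1
    · linear_combination (norm := abel) h3
  let S : Matrix.symplecticGroup (Fin m) F := ⟨_, hmem⟩
  obtain ⟨g, hgv⟩ : ∃ g : GL ι F, mat g = fromBlocks A B (-B) A :=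
    ⟨⟨S.1, (S⁻¹).1, by rw [← Submonoid.coe_mul, mul_inv_cancel]; rfl,
      by rw [← Submonoid.coe_mul, inv_mul_cancel]; rfl⟩, rfl⟩
  refine ⟨⟨g, mem_centJ.2 ⟨MaxSub.mem_spGL_iff.2 (by rw [hgv]; exact Forms.mem_symplecticGroup_iff_form.1 hmem),
    Units.ext ?_⟩⟩, Units.ext ?_⟩
  · simp [hgv, unitJ, Matrix.J, fromBlocks_multiply]
  · rw [theta_val, thetaMat, hgv, toBlocks_fromBlocks₁₁, toBlocks_fromBlocks₁₂, hA]

end CfsgLib.SpEight
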