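import Cfsg.Agent.SpEight.Minus
import Cfsg.Agent.SympType.Normaliser
import Cfsg.Agent.SUFour.Extraspecial
import Cfsg.Agent.InvNorm.Hermitian
import Cfsg.Agent.FieldEmb.Basic

/-!
# The normaliser of `2^{1+6}₋` is maximal in `Sp₈(p)`
-/

set_option autoImplicit false
set_option linter.unusedSectionVars false

namespace CfsgLib.SpEight

open Matrix Cfsg.Geo CfsgLib.SympType

local notation:max "mat" => Units.val
local notation "ι₄" => (Fin 2 ⊕ Fin 2)
local notation "ι₈" => (Fin 4 ⊕ Fin 4)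

/-- Minus type is preserved by isomorphisms. -/
theorem minus_comap {G G' : Type*} [Group G] [Group G'] (e : G ≃* G') {k : ℕ} {R : Subgroup G'}
    (hm : IsOfMinusType k R) : IsOfMinusType k (R.comap e.toMonoidHom) := by
  intro A hA hA2
  let f : R.comap e.toMonoidHom →* R :=
    { toFun := fun g => ⟨e g, g.2⟩
      map_one' := Subtype.ext (map_one e)
      map_mul' := fun a b => Subtype.ext (map_mul e _ _) }
  have hf : Function.Injective f := fun a b h => Subtype.ext (e.injective (congrArg Subtype.val h))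
  rw [Nat.card_congr (A.equivMapOfInjective f hf).toEquiv]
  refine hm (A.map f) ⟨⟨?_⟩⟩ ?_
  · rintro ⟨_, a, ha, rfl⟩ ⟨_, b, hb, rfl⟩
    refine Subtype.ext ?_
    show f a * f b = f b * f a
    rw [← map_mul, ← map_mul]
    exact congrArg f (congrArg Subtype.val (hA.is_comm.comm ⟨a, ha⟩ ⟨b, hb⟩))
  · rintro _ ⟨a, ha, rfl⟩
    rw [← map_mul, hA2 a ha, map_one]

variable {F : Type*} [Field F] [Fintype F]

/-- A non-scalar involution with an anticommuting one. -/
theorem exists_partner {R : Subgroup (GL ι₈ F)} (D : Data R) {u : GL ι₈ F} (hu : u ∈ R)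
    (huns : u ∉ scalars ι₈ F) (hu2 : u * u = 1) : ∃ y ∈ R, y * y = 1 ∧ u * y = -(y * u) := by
  obtain ⟨y, hy, huy⟩ := D.exists_anti hu huns
  rcases D.sq y hy with h | h
  · exact ⟨y, hy, h, huy⟩
  · have hyu : y * u = -(u * y) := by rw [huy, neg_neg]
    refine ⟨u * y, R.mul_mem hu hy, ?_, ?_⟩
    · rw [mul_assoc, ← mul_assoc y, hyu, neg_mul, mul_assoc u y y, h, mul_neg_one, neg_neg, hu2]
    · rw [mul_assoc u y u, hyu, mul_neg, neg_neg]

/-- A non-scalar involution exists. -/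
theorem exists_involution {R : Subgroup (GL ι₈ F)} (D : Data R) :
    ∃ u ∈ R, u ∉ scalars ι₈ F ∧ u * u = 1 := by
  obtain ⟨x, hx, hxns⟩ : ∃ x ∈ R, x ∉ scalars ι₈ F := by
    by_contra h
    push Not at h
    have hle : Submodule.span F (matrixSet R) ≤ Submodule.span F {(1 : Matrix ι₈ ι₈ F)} := by
      rw [Submodule.span_le]
      rintro _ ⟨g, hg, rfl⟩
      obtain ⟨c, hc⟩ := (mem_scalars_iff g).1 (h g hg)
      show mat g ∈ _
      rw [hc]
      exact Submodule.smul_mem _ _ (Submodule.mem_span_singleton_self _)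
    rw [CfsgLib.Aschbacher.span_eq_top_of_absIrred D.abs, top_le_iff] at hle
    have h1 : Module.finrank F ↥(Submodule.span F {(1 : Matrix ι₈ ι₈ F)}) = 1 :=
      finrank_span_singleton one_ne_zero
    rw [hle, finrank_top, Module.finrank_matrix, Module.finrank_self, mul_one] at h1
    simp at h1
  rcases D.sq x hx with hx2 | hx2
  · exact ⟨x, hx, hxns, hx2⟩
  obtain ⟨y, hy, hxy⟩ := D.exists_anti hx hxns
  have hb : bit x y = 1 := (D.bit_eq_one hx hy).2 hxy
  have hns : x⁻¹ * y ∉ scalars ι₈ F := fun h => by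
    have e := scalar_comm h x
    rw [mul_assoc, show y * x = -(x * y) by rw [hxy, neg_neg], mul_neg, inv_mul_cancel_left, ← mul_assoc,
      mul_inv_cancel, one_mul] at e
    exact ne_neg D.two _ e.symm
  obtain ⟨o, ho, o', ho', e1, -, e3, -, e5⟩ :=
    D.exists_orth_anti (by simp) hx hy hxns (D.ns_of_bit (y := x) (by rwa [bit_comm])) hns
  rcases D.sq o ho with h | h
  · exact ⟨o, ho, D.ns_of_bit e5, h⟩
  · refine ⟨o * x, R.mul_mem ho hx, D.ns_of_bit (y := o') ?_, ?_⟩
    · rw [D.bit_mul ho hx ho', e5, bit_comm, e3, add_zero]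
    · rw [mul_assoc, ← mul_assoc x, ← bit_eq_zero.1 e1, mul_assoc o x x, hx2, mul_neg_one, mul_neg, h, neg_neg]

/-- Centralisers of involutions in a proper overgroup. -/
theorem cent_plus (hp : (Fintype.card F).Prime) {R H : Subgroup (GL ι₈ F)} (D : Data R) (hR : R ≤ Cfsg.spGL 4 F)
    (hcard : Nat.card R = 128) (hm : IsOfMinusType 3 R) (hlow : subgroupNormalizer R ⊓ Cfsg.spGL 4 F ≤ H)
    (hhigh : H ≤ Cfsg.spGL 4 F) (hne : ¬ Cfsg.spGL 4 F ≤ H) :
    ∀ g ∈ H, ∀ u ∈ R, u ∉ scalars ι₈ F → u * u = 1 → g * u = u * g → g ∈ subgroupNormalizer R := by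
  intro g hg u hu huns hu2 hgu
  obtain ⟨y, hy, hy2, huy⟩ := exists_partner D hu huns hu2
  obtain ⟨M, N, hMN, hNM, hsg, hsw, hM, E⟩ := exists_eight D hR hcard hm hu hy hu2 hy2 huy
  obtain ⟨φ, hφ⟩ : ∃ φ, φ = coordEquiv M N hMN hNM := ⟨_, rfl⟩
  have hX : (Cfsg.spGL 4 F).comap φ.toMonoidHom = pairSp F := hφ ▸ spGL_comap M N hMN hNM hM
  have hN : (subgroupNormalizer R).comap φ.toMonoidHom = subgroupNormalizer (R.comap φ.toMonoidHom) := by
    rw [hφ]; exact normalizer_comap
  rw [← hφ] at hsg E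
  have O : OverPlus (R.comap φ.toMonoidHom) (H.comap φ.toMonoidHom) := by
    refine ⟨E, hX ▸ Subgroup.comap_mono hhigh, ?_, ?_⟩
    · rw [← hN, ← hX, ← Subgroup.comap_inf]
      exact Subgroup.comap_mono hlow
    · intro a ha hns ha2
      have hns' : φ a ∉ scalars ι₈ F := fun h => hns (E.split.data.scalar_of_comm fun z _ =>
        φ.injective (by rw [map_mul, map_mul]; exact scalar_comm h (φ z)))
      obtain ⟨n, hn, hna⟩ := D.trans_plus (ambient_sp D.two hR) (by simp) (a := φ a) ha hu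
        (by rw [← map_mul, ha2, map_one]) hu2 hns' huns
      obtain ⟨n', rfl⟩ := φ.surjective n
      refine ⟨n', ⟨hN ▸ hn.1, hX ▸ hn.2⟩, ?_⟩
      rcases hna with e | e <;> rw [← map_inv, ← map_mul, ← map_mul, ← hsg] at e
      · exact Or.inl (φ.injective e)
      · refine Or.inr (φ.injective (e.trans ?_))
        rw [hφ, neg_coordEquiv]
  have hne' : ¬ pairSp F ≤ H.comap φ.toMonoidHom := fun h => hne fun z hz => by
    obtain ⟨z', rfl⟩ := φ.surjective z
    exact h (hX ▸ hz)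
  have C := O.centData hp hM (hMN := hMN) (hNM := hNM) hne'
  obtain ⟨g', rfl⟩ := φ.surjective g
  obtain ⟨a, b, rfl⟩ := exists_bd_of_comm D.two (g := g') (φ.injective (by
    rw [map_mul, map_mul, hsg]; exact hgu))
  have := O.bd_mem C (a := a) (b := b) hg
  rw [← hN] at this
  exact this

variable {L : Type*} [Field L] [Fintype L] {ψ : F →+* L} {c : L} {hc : c * c = -1}
  {K : Subgroup (GL (Fin 4) L)}

/-- Centralisers of square roots of `-1` in a proper overgroup. -/
theorem cent_root (B : ThetaBase ψ c hc K) {R H : Subgroup (GL ι₈ F)} (D : Data R) (hR : R ≤ Cfsg.spGL 4 F)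
    (hcard : Nat.card R = 128) (hm : IsOfMinusType 3 R) (hlow : subgroupNormalizer R ⊓ Cfsg.spGL 4 F ≤ H)
    (hhigh : H ≤ Cfsg.spGL 4 F)
    (hplus : ∀ g ∈ H, ∀ u ∈ R, u ∉ scalars ι₈ F → u * u = 1 → g * u = u * g → g ∈ subgroupNormalizer R)
    {x g : GL ι₈ F} (hx : x ∈ R) (hx2 : x * x = -1) (hg : g ∈ H) (hgx : g * x = x * g) :
    g ∈ subgroupNormalizer R := by
  obtain ⟨h, hh, hhJ⟩ := exists_conj_unitJ D.two (hR hx) hx2
  obtain ⟨φ, hφ⟩ : ∃ φ, φ = coordEquiv (mat h) (mat h⁻¹) (Units.mul_inv h) (Units.inv_mul h) := ⟨_, rfl⟩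
  have hval : ∀ z, φ z = h * z * h⁻¹ := fun z => by rw [hφ]; exact Units.ext rfl
  have hX : ∀ z, φ z ∈ Cfsg.spGL 4 F ↔ z ∈ Cfsg.spGL 4 F := fun z => by
    rw [hval]
    refine ⟨fun hz => ?_, fun hz => mul_mem (mul_mem hh hz) (inv_mem hh)⟩
    have := mul_mem (mul_mem (inv_mem hh) hz) hh
    rwa [show h⁻¹ * (h * z * h⁻¹) * h = z by group] at this
  have hN : (subgroupNormalizer R).comap φ.toMonoidHom = subgroupNormalizer (R.comap φ.toMonoidHom) := by
    rw [hφ]; exact normalizer_comap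
  have D' : Data (R.comap φ.toMonoidHom) := by rw [hφ]; exact D.comap
  obtain ⟨g', rfl⟩ := φ.surjective g
  have hcard' : Nat.card (R.comap φ.toMonoidHom) = 128 := by
    rw [← hcard]
    exact Nat.card_congr (φ.toEquiv.subtypeEquiv fun g => Iff.rfl)
  have key := cent_unitJ B D' (H := H.comap φ.toMonoidHom) (fun z hz => (hX z).1 (hR hz)) hcard'
    (minus_comap φ hm) (show φ (unitJ 4 F) ∈ R by rw [hval, hhJ]; exact hx)
    (fun z hz => hlow ⟨(hN ▸ hz.1 : z ∈ (subgroupNormalizer R).comap φ.toMonoidHom), (hX z).2 hz.2⟩)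
    (fun z hz => (hX z).1 (hhigh hz))
    (fun z hz u hu huns hu2 hzu => hN ▸ hplus (φ z) hz (φ u) hu
      (fun h' => huns (D'.scalar_of_comm fun w _ =>
        φ.injective (by rw [map_mul, map_mul]; exact scalar_comm h' (φ w))))
      (by rw [← map_mul, hu2, map_one]) (by rw [← map_mul, ← map_mul, hzu]))
    (g := g') hg (φ.injective (by rw [map_mul, map_mul, hval (unitJ 4 F), hhJ]; exact hgx))
  rw [← hN] at key
  exact key

/-- The normaliser is maximal, given the base. -/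
theorem isMaximalIn_of_thetaBase (B : ThetaBase ψ c hc K) (hp : (Fintype.card F).Prime) {R : Subgroup (GL ι₈ F)}
    (D : Data R) (hR : R ≤ Cfsg.spGL 4 F) (hcard : Nat.card R = 128) (hm : IsOfMinusType 3 R) :
    IsMaximalIn (Cfsg.spGL 4 F) (subgroupNormalizer R ⊓ Cfsg.spGL 4 F) := by
  classical
  have A := ambient_sp D.two hR
  refine ⟨lt_of_le_not_ge inf_le_right fun hle => ?_, fun H hlow hhigh => ?_⟩
  · obtain ⟨u, hu, huns, hu2⟩ := exists_involution D
    obtain ⟨y, hy, hy2, huy⟩ := exists_partner D hu huns hu2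
    obtain ⟨M, N, hMN, hNM, hsg, hsw, hM, E⟩ := exists_eight D hR hcard hm hu hy hu2 hy2 huy
    have hN : pairSp F ≤ subgroupNormalizer (R.comap (coordEquiv M N hMN hNM).toMonoidHom) := by
      rw [← spGL_comap M N hMN hNM hM, ← normalizer_comap]
      exact Subgroup.comap_mono (hle.trans inf_le_left)
    refine (E.base hp).1.not_ge fun a ha => ?_
    have h1 := (Subgroup.mem_normalizer_iff.1 (hN (bd_mem_pairSp.2 ⟨ha, one_mem _⟩)) _).1 E.split.sw_mem
    have h2 := (R.comap (coordEquiv M N hMN hNM).toMonoidHom).mul_mem h1 E.split.sw_mem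
    rw [bd_inv, mul_assoc (bd (a, 1)), sw_bd, ← mul_assoc (bd (a, 1)), bd_mul, mul_assoc, sw_sq, mul_one,
      inv_one, one_mul, mul_one] at h2
    obtain ⟨b, hb, e | e⟩ := E.split.comm_cases h2 (sg_comm_bd _ _).symm <;> rw [bd_inj] at e
    all_goals
      rw [← e.1] at hb
      exact ⟨Subgroup.le_normalizer hb, ha⟩
  by_cases hne : Cfsg.spGL 4 F ≤ H
  · exact Or.inr (le_antisymm hhigh hne)
  left
  have hplus := cent_plus hp D hR hcard hm hlow hhigh hne
  have O : Over (Cfsg.spGL 4 F) H R := by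
    refine ⟨D, A, hlow, hhigh, by simp, fun g hg x hx hns hgx => ?_, fun g hg v hv w hw hvns s hs h => ?_⟩
    · rcases D.sq x hx with e | e
      · exact hplus g hg x hx hns e hgx
      · exact cent_root B D hR hcard hm hlow hhigh hplus hx e hg hgx
    · have hsX : s ∈ Cfsg.spGL 4 F := by
        have : g * v * g⁻¹ * w⁻¹ ∈ Cfsg.spGL 4 F :=
          mul_mem (mul_mem (mul_mem (hhigh hg) (hR hv)) (inv_mem (hhigh hg))) (inv_mem (hR hw))
        rwa [h, mul_inv_cancel_right] at this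
      have hwns : w ∉ scalars ι₈ F := fun hws => hvns (by
        have hsw : g * v * g⁻¹ ∈ scalars ι₈ F := h ▸ mul_mem hs hws
        rw [show v = g⁻¹ * (g * v * g⁻¹) * g by group, ← scalar_comm hsw g⁻¹, inv_mul_cancel_right]
        exact hsw)
      have hwv : w * w = v * v := by
        have e : g * v * g⁻¹ * (g * v * g⁻¹) = v * v := by
          rw [show g * v * g⁻¹ * (g * v * g⁻¹) = g * (v * v) * g⁻¹ by group]
          rcases D.sq v hv with e | e <;> rw [e] <;> simp
        rw [← e, h]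
        rcases scalar_sp (by norm_num) hs hsX with e' | e' <;> rw [e'] <;> simp
      rcases D.sq v hv with e | e
      · obtain ⟨n, hn, h' | h'⟩ := D.trans_plus A (by simp) hw hv (hwv.trans e) e hwns hvns
        · exact ⟨n, hn, 1, one_mem _, by rw [h', one_mul]⟩
        · exact ⟨n, hn, -1, neg_one_mem_scalars, by rw [h', neg_one_mul]⟩
      · exact D.trans_root (by simp) A hw hv (hwv.trans e) e hwns hvns
  exact le_antisymm (le_inf O.le_normalizer hhigh) hlow

omit [Fintype L]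

/-- The base for `p ≡ 1 (mod 4)`. -/
theorem thetaBase_linear (hp : (Fintype.card F).Prime) (h2 : (2 : F) ≠ 0) {c : F} (hc : c * c = -1) :
    ThetaBase (RingHom.id F) c hc (specialLinear (Fin 4) F) where
  mem g h := CfsgLib.Aschbacher.mem_specialLinear_iff.2 h
  det a ha := CfsgLib.Aschbacher.mem_specialLinear_iff.1 ha
  lift a _ := by
    have hc0 : c ≠ 0 := fun e => by simp [e] at hc
    refine exists_lift (ψ := RingHom.id F) hc h2 (A := (2 : F)⁻¹ • (mat a + (mat a⁻¹)ᵀ))
      (B := (2 * c)⁻¹ • (mat a - (mat a⁻¹)ᵀ)) (a' := (mat a⁻¹)ᵀ) ?_ ?_ ?_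
    · rw [← transpose_mul, Units.inv_mul, transpose_one]
    all_goals
      ext i j
      simp only [Matrix.add_apply, Matrix.map_apply, Matrix.smul_apply, smul_eq_mul, Matrix.sub_apply,
        RingHom.id_apply]
      field_simp
      ring
  base S hsymp habs hS hcen _ := by
    have T : SLFour.FourData S := ⟨h2, hsymp, habs, hcen, 2, by rw [hS]; norm_num⟩
    obtain ⟨ψ', Dec, hDec, hrange, hiff⟩ := SLFour.exists_frame_of_symplecticType T
    exact SLFour.isMaximalIn_of_hom ψ' hrange hiff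
      (OrthMono.isMaximalIn_frame_six hDec (by simp) (by simp) hp h2)

variable [Fintype L]

/-- The base for `p ≡ 3 (mod 4)`. -/
theorem thetaBase_unitary {p : ℕ} (hp : p.Prime) (hF : Fintype.card F = p) (hp4 : p % 4 = 3)
    (hL : Fintype.card L = p ^ 2) {c : L} (hc : c * c = -1) :
    ThetaBase ψ c hc (Cfsg.GU 4 L p ⊓ specialLinear (Fin 4) L) := by
  classical
  have h2 : (2 : F) ≠ 0 := CfsgLib.MaxSub.two_ne_zero_of_odd (by rw [hF]; exact Nat.odd_iff.2 (by omega))
  have h2L : (2 : L) ≠ 0 := by rw [← map_ofNat ψ 2]; exact (map_ne_zero _).2 h2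
  have hc0 : c ≠ 0 := fun e => by simp [e] at hc
  obtain ⟨σ, hσ, hσσ⟩ := FieldEmb.exists_conj hL
  have hσψ : ∀ x, σ (ψ x) = ψ x := fun x => by rw [hσ, ← map_pow, ← hF, FiniteField.pow_card]
  have hσc : σ c = -c := by
    obtain ⟨k, hk⟩ : ∃ k, p = 2 * (2 * k + 1) + 1 := ⟨p / 4, by omega⟩
    rw [hσ, hk, pow_succ, pow_mul, pow_two, hc, Odd.neg_one_pow ⟨k, rfl⟩, neg_one_mul]
  have hmap : ∀ (A B : Matrix (Fin 4) (Fin 4) F), (A.map ψ + c • B.map ψ).map σ = A.map ψ + (-c) • B.map ψ :=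
    fun A B => by ext i j; simp [hσψ, hσc]
  refine ⟨fun g hd => ⟨?_, CfsgLib.Aschbacher.mem_specialLinear_iff.2 hd⟩,
    fun a ha => CfsgLib.Aschbacher.mem_specialLinear_iff.1 ha.2, ?_,
    fun S hsymp habs hS hcen hSK =>
      SUFour.isMaximalIn_extraspecial hL p S hp rfl hp4 hsymp habs (hSK.trans inf_le_left) hS hcen⟩
  · refine (InvNorm.mem_GU_iff hσ hσσ _).2 ?_
    rw [InvNorm.tau, theta_val, thetaMat, hmap]
    have e := congrArg Matrix.transpose (theta_transpose (ψ := ψ) hc g)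
    rw [transpose_mul, transpose_transpose, transpose_one] at e
    exact e
  · intro a ha
    have hU := (InvNorm.mem_GU_iff hσ hσσ _).1 ha.1
    have hrange : ∀ x : L, σ x = x → ∃ y, ψ y = x := fun x hx => by
      obtain ⟨y, hy⟩ := (FieldEmb.mem_range_iff ψ hF x).2 (by rw [← hσ, hx])
      exact ⟨y, hy⟩
    have hA : ∀ i j, ∃ y, ψ y = (mat a i j + σ (mat a i j)) / 2 := fun i j =>
      hrange _ (by rw [map_div₀, map_add, hσσ, map_ofNat, add_comm])
    have hB : ∀ i j, ∃ y, ψ y = (mat a i j - σ (mat a i j)) / (2 * c) := fun i j =>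
      hrange _ (by
        rw [map_div₀, map_sub, hσσ, map_mul, map_ofNat, hσc, mul_neg, div_neg, ← neg_div, neg_sub])
    choose A hA using hA
    choose B hB using hB
    refine exists_lift (ψ := ψ) hc h2 (A := Matrix.of A) (B := Matrix.of B) (a' := (mat a).map σ) ?_ ?_ ?_
    · rw [InvNorm.tau] at hU
      have := congrArg Matrix.transpose hU
      rwa [transpose_mul, transpose_transpose, transpose_one] at this
    all_goals
      ext i j
      simp only [Matrix.add_apply, Matrix.map_apply, Matrix.smul_apply, smul_eq_mul, Matrix.of_apply, hA, hB]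
      field_simp
      ring

omit [Field L] [Fintype L]

/-- Clause 10 of the maximal subgroups of `Sp₈(q)`. -/
theorem isMaximalIn_sp_eight (p : ℕ) (R : Subgroup (GL ι₈ F)) (hp : p.Prime) (hodd : Odd p)
    (hF : Fintype.card F = p) (hsymp : IsSymplecticTypeGroup 2 R) (habs : ActsAbsolutelyIrreducibly (matrixSet R))
    (hR : R ≤ Cfsg.spGL 4 F) (hcard : Nat.card R = 128) (hm : IsOfMinusType 3 R) :
    IsMaximalIn (Cfsg.spGL 4 F) (subgroupNormalizer R ⊓ Cfsg.spGL 4 F) := by
  have hFp : (Fintype.card F).Prime := hF ▸ hp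
  have h2 : (2 : F) ≠ 0 := CfsgLib.MaxSub.two_ne_zero_of_odd (hF ▸ hodd)
  have D := Data.of_symplecticType h2 hsymp habs
  by_cases hp4 : p % 4 = 3
  · haveI : Fact p.Prime := ⟨hp⟩
    letI : Fintype (GaloisField p 2) := Fintype.ofFinite _
    have hL : Fintype.card (GaloisField p 2) = p ^ 2 := by
      rw [← Nat.card_eq_fintype_card, GaloisField.card p 2 two_ne_zero]
    obtain ⟨ψ⟩ := FieldEmb.exists_ringHom (by norm_num : 1 ≤ 2) hF hL
    obtain ⟨c, hc⟩ : IsSquare (-1 : GaloisField p 2) := FiniteField.isSquare_neg_one_iff.2 (by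
      rw [hL, Nat.pow_mod, hp4]; norm_num)
    exact isMaximalIn_of_thetaBase (thetaBase_unitary (ψ := ψ) hp hF hp4 hL hc.symm) hFp D hR hcard hm
  · obtain ⟨c, hc⟩ : IsSquare (-1 : F) := FiniteField.isSquare_neg_one_iff.2 (by rw [hF]; exact hp4)
    exact isMaximalIn_of_thetaBase (thetaBase_linear hFp h2 hc.symm) hFp D hR hcard hm

end CfsgLib.SpEight
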