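import Mathlib

/-!
# Permutations of five points

A non-trivial permutation, or its product with a conjugate by a three-cycle, fixes two points and moves a third.
-/

set_option autoImplicit false

namespace CfsgLib.SpEight

/-- A map fixing two points and moving a third. -/
def FixTwo (f : Fin 5 → Fin 5) : Prop :=
  ∃ l m : Fin 5, l < m ∧ f l = l ∧ f m = m ∧ ∃ n, f n ≠ n

instance (f : Fin 5 → Fin 5) : Decidable (FixTwo f) := by unfold FixTwo; infer_instance

/-- The three-cycle `i ↦ j ↦ k ↦ i`. -/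
def cyc (i j k : Fin 5) (v : Fin 5) : Fin 5 := if v = i then j else if v = j then k else if v = k then i else v

/-- The product of the conjugate of `f` by a three-cycle with `f`. -/
def twist (f : Fin 5 → Fin 5) (i j k : Fin 5) : Fin 5 → Fin 5 :=
  fun v => cyc i j k (f (cyc i j k (cyc i j k (f v))))

theorem fixTwo_aux : ∀ a b : Fin 5, a ≠ b → ∀ c : Fin 5, c ≠ a → c ≠ b → ∀ d : Fin 5, d ≠ a → d ≠ b → d ≠ c →
    ∀ e : Fin 5, e ≠ a → e ≠ b → e ≠ c → e ≠ d → (a = 0 ∧ b = 1 ∧ c = 2 ∧ d = 3) ∨ FixTwo ![a, b, c, d, e] ∨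
      ∃ i j k : Fin 5, i ≠ j ∧ i ≠ k ∧ j ≠ k ∧ FixTwo (twist ![a, b, c, d, e] i j k) := by
  decide +kernel

theorem exists_fixTwo {f : Fin 5 → Fin 5} (hf : Function.Injective f) (hne : ∃ v, f v ≠ v) :
    FixTwo f ∨ ∃ i j k : Fin 5, i ≠ j ∧ i ≠ k ∧ j ≠ k ∧ FixTwo (twist f i j k) := by
  have e : ![f 0, f 1, f 2, f 3, f 4] = f := by funext v; fin_cases v <;> rfl
  have h := fixTwo_aux (f 0) (f 1) (hf.ne (by decide)) (f 2) (hf.ne (by decide)) (hf.ne (by decide)) (f 3)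
    (hf.ne (by decide)) (hf.ne (by decide)) (hf.ne (by decide)) (f 4) (hf.ne (by decide)) (hf.ne (by decide))
    (hf.ne (by decide)) (hf.ne (by decide))
  rw [e] at h
  refine h.resolve_left fun ⟨h0, h1, h2, h3⟩ => ?_
  obtain ⟨v, hv⟩ := hne
  have h4 : f 4 = 4 := (by decide : ∀ e : Fin 5, e ≠ 0 → e ≠ 1 → e ≠ 2 → e ≠ 3 → e = 4) _
    (h0 ▸ hf.ne (by decide)) (h1 ▸ hf.ne (by decide)) (h2 ▸ hf.ne (by decide)) (h3 ▸ hf.ne (by decide))
  fin_cases v <;> contradiction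

/-- Bit vectors of even weight on five points. -/
theorem even_cases : ∀ b : Fin 5 → ZMod 2, b 0 + b 1 + b 2 + b 3 + b 4 = 0 →
    (∀ k, b k = 0) ∨ (∃ j, ∀ k, b k = if j = k then 0 else 1) ∨
      ∃ i j, i ≠ j ∧ ∀ k, b k = (if i = k then 0 else 1) + (if j = k then 0 else 1) := by
  decide +kernel

end CfsgLib.SpEight
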