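import Cfsg.Agent.SympType.Blocks
import Cfsg.Agent.SympType.Coords
import Cfsg.Agent.Forms.SymplecticBasis
import Cfsg.Agent.Forms.Symplectic
import Cfsg.Agent.MaxSub.SymplecticDecomposition

/-!
# Coordinates in which two anticommuting symplectic involutions of `F⁸` are `diag (1, -1)` and the swap

The form becomes the orthogonal sum of two copies of the standard form on `F⁴`.
-/

set_option autoImplicit false
set_option linter.unusedSectionVars false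

namespace CfsgLib.SpEight

open Matrix Cfsg.Geo CfsgLib.SympType

local notation:max "mat" => Units.val
local notation "ι₄" => (Fin 2 ⊕ Fin 2)
local notation "ι₈" => (Fin 4 ⊕ Fin 4)

variable {F : Type*} [Field F]

/-- The orthogonal sum of two standard forms. -/
noncomputable def pairForm (u v : ι₄ ⊕ ι₄ → F) : F :=
  Cfsg.sympForm 2 F (u ∘ Sum.inl) (v ∘ Sum.inl) + Cfsg.sympForm 2 F (u ∘ Sum.inr) (v ∘ Sum.inr)

/-- The isometry group of the orthogonal sum. -/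
noncomputable def pairSp (F : Type*) [Field F] : Subgroup (GL (ι₄ ⊕ ι₄) F) :=
  Cfsg.preserving (Units.coeHom _) (pairForm (F := F))

theorem mem_pairSp {g : GL (ι₄ ⊕ ι₄) F} :
    g ∈ pairSp F ↔ ∀ u v, pairForm (mat g *ᵥ u) (mat g *ᵥ v) = pairForm u v := Iff.rfl

theorem bd_mulVec_inl (a b : GL ι₄ F) (u : ι₄ ⊕ ι₄ → F) :
    (mat (bd (a, b)) *ᵥ u) ∘ Sum.inl = mat a *ᵥ (u ∘ Sum.inl) := by
  funext i; simp [bd_val, fromBlocks_mulVec]

theorem bd_mulVec_inr (a b : GL ι₄ F) (u : ι₄ ⊕ ι₄ → F) :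
    (mat (bd (a, b)) *ᵥ u) ∘ Sum.inr = mat b *ᵥ (u ∘ Sum.inr) := by
  funext i; simp [bd_val, fromBlocks_mulVec]

theorem sympForm_zero (m : ℕ) (u : Fin m ⊕ Fin m → F) :
    Cfsg.sympForm m F 0 u = 0 := by
  simp [Forms.sympForm_eq_sum]

theorem bd_mem_pairSp {a b : GL ι₄ F} :
    bd (a, b) ∈ pairSp F ↔ a ∈ Cfsg.spGL 2 F ∧ b ∈ Cfsg.spGL 2 F := by
  simp only [mem_pairSp, MaxSub.mem_spGL_iff, pairForm, bd_mulVec_inl, bd_mulVec_inr]
  refine ⟨fun h => ⟨fun u v => ?_, fun u v => ?_⟩, fun ⟨ha, hb⟩ u v => by rw [ha, hb]⟩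
  · have := h (Sum.elim u 0) (Sum.elim v 0)
    simpa [sympForm_zero] using this
  · have := h (Sum.elim 0 u) (Sum.elim 0 v)
    simpa [sympForm_zero] using this

theorem sw_mulVec_inl (u : ι₄ ⊕ ι₄ → F) :
    (mat (sw : GL (ι₄ ⊕ ι₄) F) *ᵥ u) ∘ Sum.inl = u ∘ Sum.inr := by
  funext i; simp [sw, fromBlocks_mulVec]

theorem sw_mulVec_inr (u : ι₄ ⊕ ι₄ → F) :
    (mat (sw : GL (ι₄ ⊕ ι₄) F) *ᵥ u) ∘ Sum.inr = u ∘ Sum.inl := by
  funext i; simp [sw, fromBlocks_mulVec]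

theorem sw_mem_pairSp : (sw : GL (ι₄ ⊕ ι₄) F) ∈ pairSp F := fun u v => by
  show pairForm (mat (sw : GL (ι₄ ⊕ ι₄) F) *ᵥ u) (mat (sw : GL (ι₄ ⊕ ι₄) F) *ᵥ v) = _
  simp only [pairForm, sw_mulVec_inl, sw_mulVec_inr]
  exact add_comm _ _

variable (M : Matrix ι₈ (ι₄ ⊕ ι₄) F) (N : Matrix (ι₄ ⊕ ι₄) ι₈ F) (hMN : M * N = 1) (hNM : N * M = 1)

/-- The coordinates carry the sum of the two forms to the standard form. -/
def FormTo : Prop := ∀ u v : ι₄ ⊕ ι₄ → F, Cfsg.sympForm 4 F (M *ᵥ u) (M *ᵥ v) = pairForm u v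

theorem spGL_comap (hM : FormTo M) :
    (Cfsg.spGL 4 F).comap (coordEquiv M N hMN hNM).toMonoidHom = pairSp F := by
  ext g
  rw [Subgroup.mem_comap, MaxSub.mem_spGL_iff, mem_pairSp]
  have e : ∀ u, mat (coordEquiv M N hMN hNM g) *ᵥ (M *ᵥ u) = M *ᵥ (mat g *ᵥ u) := fun u => by
    rw [coordEquiv_val, mulVec_mulVec, mulVec_mulVec, Matrix.mul_assoc, hNM, Matrix.mul_one]
  refine ⟨fun h u v => ?_, fun h u v => ?_⟩
  · rw [← hM, ← hM, ← e, ← e]; exact h _ _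
  · have eu : ∀ u, u = M *ᵥ (N *ᵥ u) := fun u => by rw [mulVec_mulVec, hMN, one_mulVec]
    show Cfsg.sympForm 4 F (mat (coordEquiv M N hMN hNM g) *ᵥ u) (mat (coordEquiv M N hMN hNM g) *ᵥ v) = _
    rw [eu u, eu v, e, e, hM, hM, h]

omit M N hMN hNM

/-- Symplectic coordinates for two anticommuting involutions. -/
theorem exists_frame (h2 : (2 : F) ≠ 0) {x y : GL ι₈ F} (hxS : x ∈ Cfsg.spGL 4 F) (hyS : y ∈ Cfsg.spGL 4 F)
    (hx : x * x = 1) (hy : y * y = 1) (hxy : x * y = -(y * x)) :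
    ∃ (M : Matrix ι₈ (ι₄ ⊕ ι₄) F) (N : Matrix (ι₄ ⊕ ι₄) ι₈ F) (hMN : M * N = 1) (hNM : N * M = 1),
      coordEquiv M N hMN hNM sg = x ∧ coordEquiv M N hMN hNM sw = y ∧ FormTo M := by
  classical
  let e : ι₈ ≃ ι₄ ⊕ ι₄ := Fintype.equivOfCardEq (by simp)
  obtain ⟨M₀, N₀, hMN₀, hNM₀, hsg, hsw⟩ := exists_coords h2 e hx hy hxy
  let L : (ι₄ → F) →ₗ[F] (ι₈ → F) := (Matrix.toLin' M₀).comp
    (LinearMap.pi (Sum.elim (fun i => LinearMap.proj i) (fun _ => 0)))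
  have hL : ∀ p : ι₄ → F, L p = M₀ *ᵥ Sum.elim p 0 := fun p => by
    show Matrix.toLin' M₀ _ = _
    rw [toLin'_apply]
    congr 1
    funext s; rcases s with i | i <;> rfl
  let L' : (ι₄ → F) → (ι₈ → F) := fun p => M₀ *ᵥ Sum.elim 0 p
  have hinv : ∀ {g : GL (ι₄ ⊕ ι₄) F} {z : GL ι₈ F}, coordEquiv M₀ N₀ hMN₀ hNM₀ g = z → ∀ u,
      mat z *ᵥ (M₀ *ᵥ u) = M₀ *ᵥ (mat g *ᵥ u) := fun {g z} h u => by
    rw [← h, coordEquiv_val, mulVec_mulVec, mulVec_mulVec, Matrix.mul_assoc, hNM₀, Matrix.mul_one]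
  have hsgL : ∀ p, mat x *ᵥ L p = L p := fun p => by
    rw [hL, hinv hsg, sg, bd_val, fromBlocks_mulVec]
    congr 1
    funext s; rcases s with i | i <;> simp
  have hsgL' : ∀ p, mat x *ᵥ L' p = -L' p := fun p => by
    show mat x *ᵥ (M₀ *ᵥ _) = -(M₀ *ᵥ _)
    rw [hinv hsg, sg, bd_val, fromBlocks_mulVec, ← mulVec_neg]
    congr 1
    funext s; rcases s with i | i <;> simp [neg_mulVec]
  have hswL : ∀ p, mat y *ᵥ L p = L' p := fun p => by
    rw [hL, hinv hsw, sw, fromBlocks_mulVec]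
    show M₀ *ᵥ _ = M₀ *ᵥ _
    congr 1
    funext s; rcases s with i | i <;> simp
  have hsplit : ∀ u : ι₄ ⊕ ι₄ → F, M₀ *ᵥ u = L (u ∘ Sum.inl) + L' (u ∘ Sum.inr) := fun u => by
    rw [hL]
    show _ = _ + M₀ *ᵥ _
    rw [← mulVec_add]
    congr 1
    funext s; rcases s with i | i <;> simp
  have hcross : ∀ p q, Cfsg.sympForm 4 F (L p) (L' q) = 0 := fun p q => by
    have h := MaxSub.mem_spGL_iff.1 hxS (L p) (L' q)
    rw [hsgL, hsgL', ← neg_one_smul F (L' q), MaxSub.sesq_sympForm.smul_right, RingEquiv.refl_apply] at h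
    exact (mul_eq_zero.1 (by linear_combination -h : (2 : F) * Cfsg.sympForm 4 F (L p) (L' q) = 0)).resolve_left h2
  let B : LinearMap.BilinForm F (ι₄ → F) := (Forms.sympBilin 4 F).compl₁₂ L L
  have hB : ∀ p q, B p q = Cfsg.sympForm 4 F (L p) (L q) := fun p q => Forms.sympBilin_apply _ _
  have hA : B.IsAlt := fun p => by rw [hB, Forms.sympForm_self]
  have hnd : ∀ p, (∀ q, B p q = 0) → p = 0 := fun p h => by
    have h0 : L p = 0 := by
      refine Forms.sympForm_sep _ fun v => ?_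
      rw [show v = M₀ *ᵥ (N₀ *ᵥ v) by rw [mulVec_mulVec, hMN₀, one_mulVec], hsplit,
        MaxSub.sesq_sympForm.add_right, hcross, add_zero, ← hB]
      exact h _
    have h1 := congrArg (N₀ *ᵥ ·) h0
    simp only [hL, mulVec_mulVec, hNM₀, one_mulVec, mulVec_zero] at h1
    simpa using congrArg (· ∘ Sum.inl) h1
  obtain ⟨m, b, b1, b2, b3⟩ := Forms.exists_symplectic_basis_nondeg B hA
    ⟨hnd, fun q h => hnd q fun p => by rw [← LinearMap.IsAlt.neg hA p q, h p, neg_zero]⟩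
  obtain rfl : m = 2 := by
    have := Module.finrank_eq_card_basis b
    rw [Module.finrank_pi, Fintype.card_sum, Fintype.card_sum, Fintype.card_fin, Fintype.card_fin] at this
    omega
  let E : (ι₄ → F) ≃ₗ[F] (ι₄ → F) := (b.reindex (Equiv.sumComm _ _)).equivFun.symm
  have hE : ∀ p q, Cfsg.sympForm 4 F (L (E p)) (L (E q)) = Cfsg.sympForm 2 F p q := by
    have h : B.compl₁₂ E.toLinearMap E.toLinearMap = Forms.sympBilin 2 F := by
      refine LinearMap.BilinForm.ext_basis (Pi.basisFun F ι₄) fun i j => ?_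
      have hs : ∀ k, E (Pi.single k 1) = b k.swap := fun k => by
        simp [E, Module.Basis.equivFun_symm_apply, Pi.single_apply]
      rw [Pi.basisFun_apply, Pi.basisFun_apply, LinearMap.compl₁₂_apply, LinearEquiv.coe_coe, hs, hs,
        Forms.sympBilin_apply]
      rcases i with i | i <;> rcases j with j | j <;> simp only [Sum.swap_inl, Sum.swap_inr]
      · rw [b3]; simp [Forms.sympForm_single_inl]
      · rw [← LinearMap.IsAlt.neg hA (b (Sum.inl j)) (b (Sum.inr i)), b1, Forms.sympForm_single_inr]; simp [Pi.single_apply, eq_comm]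
      · rw [b1, Forms.sympForm_single_inl]; simp [Pi.single_apply, eq_comm]
      · rw [b2]; simp [Forms.sympForm_single_inr]
    intro p q
    rw [← Forms.sympBilin_apply p q, ← h, LinearMap.compl₁₂_apply, hB]
    rfl
  obtain ⟨P, hP⟩ : ∃ P : GL ι₄ F, ∀ p, mat P *ᵥ p = E p := by
    refine ⟨⟨LinearMap.toMatrix' E.toLinearMap, LinearMap.toMatrix' E.symm.toLinearMap, ?_, ?_⟩, fun p => ?_⟩
    · rw [← LinearMap.toMatrix'_comp, LinearEquiv.comp_symm, LinearMap.toMatrix'_id]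
    · rw [← LinearMap.toMatrix'_comp, LinearEquiv.symm_comp, LinearMap.toMatrix'_id]
    · show LinearMap.toMatrix' E.toLinearMap *ᵥ p = _
      rw [LinearMap.toMatrix'_mulVec]; rfl
  have hMN : M₀ * mat (bd (P, P)) * (mat (bd (P, P))⁻¹ * N₀) = 1 := by
    rw [Matrix.mul_assoc, ← Matrix.mul_assoc (mat (bd (P, P))), ← Units.val_mul, mul_inv_cancel, Units.val_one,
      Matrix.one_mul, hMN₀]
  have hNM : mat (bd (P, P))⁻¹ * N₀ * (M₀ * mat (bd (P, P))) = 1 := by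
    rw [Matrix.mul_assoc, ← Matrix.mul_assoc N₀, hNM₀, Matrix.one_mul, ← Units.val_mul, inv_mul_cancel,
      Units.val_one]
  have hconj : ∀ g, coordEquiv _ _ hMN hNM g = coordEquiv M₀ N₀ hMN₀ hNM₀ (bd (P, P) * g * (bd (P, P))⁻¹) :=
    fun g => Units.ext (by
      rw [coordEquiv_val, coordEquiv_val, Units.val_mul, Units.val_mul]; simp only [Matrix.mul_assoc])
  refine ⟨_, _, hMN, hNM, ?_, ?_, fun u v => ?_⟩
  · rw [hconj, ← sg_comm_bd, mul_inv_cancel_right, hsg]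
  · rw [hconj, ← sw_bd, mul_inv_cancel_right, hsw]
  · rw [← mulVec_mulVec, ← mulVec_mulVec, hsplit, hsplit]
    simp only [bd_mulVec_inl, bd_mulVec_inr, hP]
    rw [MaxSub.sesq_sympForm.add_left, MaxSub.sesq_sympForm.add_right, MaxSub.sesq_sympForm.add_right, hcross,
      Forms.sympForm_swap (L _) (L' _), hcross, ← hswL, ← hswL, MaxSub.mem_spGL_iff.1 hyS, hE, hE]
    simp [pairForm]

/-- Overgroups of the stabiliser of the two summands. -/
theorem pairSp_le_of_blocks [Fintype F] (h2 : (2 : F) ≠ 0) {M : Matrix ι₈ (ι₄ ⊕ ι₄) F} {N : Matrix (ι₄ ⊕ ι₄) ι₈ F}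
    {hMN : M * N = 1} {hNM : N * M = 1} (hM : FormTo M) {H : Subgroup (GL (ι₄ ⊕ ι₄) F)} (hH : H ≤ pairSp F)
    (hbd : ∀ a ∈ Cfsg.spGL 2 F, ∀ b ∈ Cfsg.spGL 2 F, bd (a, b) ∈ H) (hsw : sw ∈ H)
    {g : GL (ι₄ ⊕ ι₄) F} (hg : g ∈ H) (hne : g * sg * g⁻¹ ≠ sg) (hne' : g * sg * g⁻¹ ≠ -(sg : GL (ι₄ ⊕ ι₄) F)) :
    pairSp F ≤ H := by
  classical
  let C : Fin 2 → Submodule F (ι₄ ⊕ ι₄ → F) :=
    ![LinearMap.ker (LinearMap.funLeft F F Sum.inr), LinearMap.ker (LinearMap.funLeft F F Sum.inl)]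
  have hC : ∀ k u, u ∈ C k ↔ ![u ∘ Sum.inr, u ∘ Sum.inl] k = 0 := fun k u => by
    fin_cases k <;> simp [C] <;> rfl
  let Mi : (ι₄ ⊕ ι₄ → F) ≃ₗ[F] (ι₈ → F) :=
    { Matrix.toLin' M with
      invFun := fun v => N *ᵥ v
      left_inv := fun u => by simp [mulVec_mulVec, hNM]
      right_inv := fun v => by simp [mulVec_mulVec, hMN] }
  have hMi : ∀ u, Mi u = M *ᵥ u := fun u => toLin'_apply M u
  let D : Fin 2 → Submodule F (ι₈ → F) := fun k => (C k).map Mi.toLinearMap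
  have hmemD : ∀ k u, M *ᵥ u ∈ D k ↔ u ∈ C k := fun k u => by
    rw [← hMi]; exact ⟨fun ⟨v, hv, e⟩ => Mi.injective e ▸ hv, fun h => ⟨u, h, rfl⟩⟩
  have hsum : ∀ u, ∃ p ∈ C 0, ∃ q ∈ C 1, u = p + q := fun u =>
    ⟨Sum.elim (u ∘ Sum.inl) 0, (hC 0 _).2 (by simp), Sum.elim 0 (u ∘ Sum.inr), (hC 1 _).2 (by simp), by
      funext s; rcases s with i | i <;> simp⟩
  have hdisj : C 0 ⊓ C 1 = ⊥ := by
    rw [eq_bot_iff]
    rintro u ⟨h0, h1⟩
    have e0 : u ∘ Sum.inr = 0 := by simpa using (hC 0 u).1 h0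
    have e1 : u ∘ Sum.inl = 0 := by simpa using (hC 1 u).1 h1
    rw [Submodule.mem_bot]
    funext s; rcases s with i | i
    exacts [congrFun e1 i, congrFun e0 i]
  have hrank : ∀ k, Module.finrank F (C k) = 4 := fun k => by
    have h8 : Module.finrank F (ι₄ ⊕ ι₄ → F) = 8 := by simp
    have hr : ∀ f : ι₄ → ι₄ ⊕ ι₄, Function.Injective f →
        Module.finrank F (LinearMap.ker (LinearMap.funLeft F F f)) = 4 := fun f hf => by
      have h := LinearMap.finrank_range_add_finrank_ker (LinearMap.funLeft F F f)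
      rw [LinearMap.range_eq_top.2 (LinearMap.funLeft_surjective_of_injective _ _ f hf), finrank_top, h8] at h
      simp at h
      omega
    fin_cases k
    exacts [hr _ Sum.inr_injective, hr _ Sum.inl_injective]
  have hD : IsNondegenerateMDecomposition (Cfsg.sympForm 4 F) 4 D := by
    refine ⟨⟨le_rfl, by norm_num, fun k => ?_, ?_, ?_⟩, ?_, ?_⟩
    · rw [LinearEquiv.finrank_map_eq, hrank]
    · rw [iSupIndep_pair (show (0 : Fin 2) ≠ 1 by decide) (fun k => by fin_cases k <;> simp)]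
      show Disjoint ((C 0).map _) ((C 1).map _)
      rw [disjoint_iff, ← Submodule.map_inf _ Mi.injective, hdisj, Submodule.map_bot]
    · rw [eq_top_iff]
      intro v _
      obtain ⟨u, rfl⟩ := Mi.surjective v
      obtain ⟨p, hp, q, hq, rfl⟩ := hsum u
      rw [map_add]
      exact add_mem (Submodule.mem_iSup_of_mem 0 ⟨p, hp, rfl⟩) (Submodule.mem_iSup_of_mem 1 ⟨q, hq, rfl⟩)
    · intro k w hw hw0
      obtain ⟨u, hu, rfl⟩ := hw
      suffices ∃ z ∈ D k, Cfsg.sympForm 4 F (Mi u) z ≠ 0 by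
        obtain ⟨z, hz, hz'⟩ := this
        exact ⟨⟨z, hz, by rw [Forms.sympForm_swap]; simpa using hz'⟩, z, hz, hz'⟩
      have hu0 : u ≠ 0 := fun h => hw0 (by rw [h]; exact map_zero _)
      have hpart : ![u ∘ Sum.inl, u ∘ Sum.inr] k ≠ 0 := fun h => hu0 (by
        have h' := (hC k u).1 hu
        fin_cases k <;> simp at h h' <;> funext s <;> rcases s with i | i <;>
          first | exact congrFun h i | exact congrFun h' i)
      obtain ⟨q, hq⟩ : ∃ q, Cfsg.sympForm 2 F (![u ∘ Sum.inl, u ∘ Sum.inr] k) q ≠ 0 := by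
        by_contra h
        push Not at h
        exact hpart (Forms.sympForm_sep _ h)
      refine ⟨M *ᵥ ![Sum.elim q 0, Sum.elim 0 q] k, (hmemD k _).2 ((hC k _).2 (by fin_cases k <;> simp)), ?_⟩
      rw [hMi, hM]
      have h' := (hC k u).1 hu
      fin_cases k <;> simp at h' hq ⊢ <;> simpa [pairForm, h', sympForm_zero] using hq
    · rintro k l hkl _ ⟨u, hu, rfl⟩ _ ⟨v, hv, rfl⟩
      show Cfsg.sympForm 4 F (Mi u) (Mi v) = 0
      rw [hMi, hMi, hM]
      have h1 := (hC k u).1 hu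
      have h2 := (hC l v).1 hv
      have z : ∀ p : ι₄ → F, Cfsg.sympForm 2 F p 0 = 0 := fun p => by rw [Forms.sympForm_swap, sympForm_zero, neg_zero]
      fin_cases k <;> fin_cases l <;> first | exact absurd rfl hkl | simp_all [pairForm, sympForm_zero]
  have hmove : ∀ (h : GL (ι₄ ⊕ ι₄) F) u, Matrix.toLin' (mat (coordEquiv M N hMN hNM h)) (M *ᵥ u) =
      M *ᵥ (mat h *ᵥ u) := fun h u => by
    rw [toLin'_apply, coordEquiv_val, mulVec_mulVec, mulVec_mulVec, Matrix.mul_assoc, hNM, Matrix.mul_one]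
  have hstab : ∀ h : GL (ι₄ ⊕ ι₄) F, coordEquiv M N hMN hNM h ∈ decompositionStabilizer D →
      ∃ a b, h = bd (a, b) ∨ h = bd (a, b) * sw := by
    rintro h ⟨σ, hσ⟩
    have hto : ∀ k u, u ∈ C k → mat h *ᵥ u ∈ C (σ k) := fun k u hu => by
      rw [← hmemD, ← hmove, ← hσ]
      exact Submodule.mem_map_of_mem ((hmemD k u).2 hu)
    have col : ∀ (h : GL (ι₄ ⊕ ι₄) F), (∀ u ∈ C 0, mat h *ᵥ u ∈ C 0) → (∀ u ∈ C 1, mat h *ᵥ u ∈ C 1) →
        h * sg = sg * h := fun h h0 h1 => by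
      refine Units.ext ?_
      have e1 : (mat h).toBlocks₂₁ = 0 := Matrix.ext fun i j => by
        have := (hC 0 _).1 (h0 (Pi.single (Sum.inl j) 1) ((hC 0 _).2 (by funext s; simp)))
        simpa [toBlocks₂₁, toBlocks₁₂] using congrFun this i
      have e2 : (mat h).toBlocks₁₂ = 0 := Matrix.ext fun i j => by
        have := (hC 1 _).1 (h1 (Pi.single (Sum.inr j) 1) ((hC 1 _).2 (by funext s; simp)))
        simpa [toBlocks₂₁, toBlocks₁₂] using congrFun this i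
      rw [Units.val_mul, Units.val_mul, sg, bd_val, ← fromBlocks_toBlocks (mat h), e1, e2, fromBlocks_multiply,
        fromBlocks_multiply]
      simp
    rcases (by decide : ∀ σ : Equiv.Perm (Fin 2), σ 0 = 0 ∧ σ 1 = 1 ∨ σ 0 = 1 ∧ σ 1 = 0) σ with ⟨s0, s1⟩ | ⟨s0, s1⟩
    · obtain ⟨a, b, e⟩ := exists_bd_of_comm h2 (col h (fun u hu => s0 ▸ hto 0 u hu) (fun u hu => s1 ▸ hto 1 u hu))
      exact ⟨a, b, Or.inl e⟩
    · have hs : ∀ u, u ∈ C 0 → mat (sw : GL (ι₄ ⊕ ι₄) F) *ᵥ u ∈ C 1 := fun u hu => (hC 1 _).2 (by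
        simpa [sw_mulVec_inl] using (hC 0 u).1 hu)
      have hs' : ∀ u, u ∈ C 1 → mat (sw : GL (ι₄ ⊕ ι₄) F) *ᵥ u ∈ C 0 := fun u hu => (hC 0 _).2 (by
        simpa [sw_mulVec_inr] using (hC 1 u).1 hu)
      obtain ⟨a, b, e⟩ := exists_bd_of_comm (g := h * sw) h2 (col (h * sw)
        (fun u hu => by rw [Units.val_mul, ← mulVec_mulVec]; exact s1 ▸ hto 1 _ (hs u hu))
        (fun u hu => by rw [Units.val_mul, ← mulVec_mulVec]; exact s0 ▸ hto 0 _ (hs' u hu)))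
      exact ⟨a, b, Or.inr (by rw [← e, mul_assoc, sw_sq, mul_one])⟩
  have hmax := MaxSub.isMaximalIn_spDecomposition hD (fun h => absurd h.1 (by norm_num))
  have hS := spGL_comap M N hMN hNM hM
  have hlow : decompositionStabilizer D ⊓ Cfsg.spGL 4 F ≤ H.map (coordEquiv M N hMN hNM).toMonoidHom := by
    rintro z ⟨hz1, hz2⟩
    obtain ⟨h, rfl⟩ := (coordEquiv M N hMN hNM).surjective z
    have hh : h ∈ pairSp F := hS ▸ hz2
    refine ⟨h, ?_, rfl⟩
    obtain ⟨a, b, rfl | rfl⟩ := hstab h hz1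
    · exact hbd a (bd_mem_pairSp.1 hh).1 b (bd_mem_pairSp.1 hh).2
    · have := (pairSp F).mul_mem hh ((pairSp F).inv_mem sw_mem_pairSp)
      rw [mul_inv_cancel_right] at this
      exact H.mul_mem (hbd a (bd_mem_pairSp.1 this).1 b (bd_mem_pairSp.1 this).2) hsw
  rcases hmax.2 _ hlow (by
    rintro _ ⟨h, hh, rfl⟩
    have := hH hh
    rwa [← hS] at this) with e | e
  · exfalso
    have hgm : coordEquiv M N hMN hNM g ∈ decompositionStabilizer D := by
      have : coordEquiv M N hMN hNM g ∈ H.map (coordEquiv M N hMN hNM).toMonoidHom := ⟨g, hg, rfl⟩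
      rw [e] at this
      exact this.1
    obtain ⟨a, b, rfl | rfl⟩ := hstab g hgm
    · exact hne (by rw [← sg_comm_bd, mul_inv_cancel_right])
    · refine hne' ?_
      have e : sw * sg * (sw : GL (ι₄ ⊕ ι₄) F)⁻¹ = -(sg : GL (ι₄ ⊕ ι₄) F) := by
        rw [sg, sw_conj, ← bd_neg, neg_neg]
      rw [show bd (a, b) * sw * sg * (bd (a, b) * sw)⁻¹ = bd (a, b) * (sw * sg * sw⁻¹) * (bd (a, b))⁻¹ by group,
        e, mul_neg, neg_mul, ← sg_comm_bd, mul_inv_cancel_right]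
  · intro h hh
    have : coordEquiv M N hMN hNM h ∈ H.map (coordEquiv M N hMN hNM).toMonoidHom := by
      rw [e]; rw [← hS] at hh; exact hh
    obtain ⟨h', hh', he⟩ := this
    exact (coordEquiv M N hMN hNM).injective he ▸ hh'

end CfsgLib.SpEight
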