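import Cfsg.Agent.SpEight.Plus
import Cfsg.Agent.SpEight.Theta
import Cfsg.Agent.SympType.Projection
import Cfsg.Agent.SLFour.SymplecticType

/-!
# Centralisers of square roots of `-1` of `R` in an overgroup of the normaliser
-/

set_option autoImplicit false
set_option linter.unusedSectionVars false

namespace CfsgLib.SpEight

open Matrix Cfsg.Geo CfsgLib.SympType
open scoped commutatorElement

local notation:max "mat" => Units.val
local notation "ι₄" => (Fin 2 ⊕ Fin 2)
local notation "ι₈" => (Fin 4 ⊕ Fin 4)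

variable {F : Type*} [Field F]

/-- The symplectic group is an ambient group. -/
theorem ambient_sp {m : ℕ} {R : Subgroup (GL (Fin m ⊕ Fin m) F)} (h2 : (2 : F) ≠ 0) (hR : R ≤ Cfsg.spGL m F) :
    Ambient (Cfsg.spGL m F) R := by
  refine ⟨hR, ?_⟩
  intro z hz z' hz' hz2 hz'2 _ _ t t' γ ht ht' hγ
  have hs := MaxSub.sesq_sympForm (m := m) (F := F)
  have key : ∀ (z t : GL (Fin m ⊕ Fin m) F), z ∈ R → z * z = -1 → mat t = 1 + mat z → ∀ u v,
      Cfsg.sympForm m F (mat t *ᵥ u) (mat t *ᵥ v) = 2 * Cfsg.sympForm m F u v := by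
    intro z t hz hz2 ht u v
    have h1 := MaxSub.mem_spGL_iff.1 (hR hz)
    have h3 : Cfsg.sympForm m F u (mat z *ᵥ v) = -Cfsg.sympForm m F (mat z *ᵥ u) v := by
      rw [← h1 u (mat z *ᵥ v), mulVec_mulVec v, ← Units.val_mul, hz2, Units.val_neg, Units.val_one, neg_mulVec,
        one_mulVec, ← neg_one_smul F v, hs.smul_right]
      simp
    rw [ht, add_mulVec, add_mulVec, one_mulVec, one_mulVec, hs.add_left, hs.add_right, hs.add_right, h1, h3]
    ring
  refine MaxSub.mem_spGL_iff.2 fun u v => ?_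
  rw [hγ, smul_mulVec, smul_mulVec, ← mulVec_mulVec, ← mulVec_mulVec, hs.smul_left, hs.smul_right,
    key z t hz hz2 ht, key z' t' hz' hz'2 ht', RingEquiv.refl_apply]
  field_simp

/-- Coordinates for an involution and a partner. -/
theorem exists_eight [Finite F] {R : Subgroup (GL ι₈ F)} (D : Data R) (hR : R ≤ Cfsg.spGL 4 F)
    (hcard : Nat.card R = 128) (hm : IsOfMinusType 3 R) {u y : GL ι₈ F} (hu : u ∈ R) (hy : y ∈ R)
    (hu2 : u * u = 1) (hy2 : y * y = 1) (huy : u * y = -(y * u)) :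
    ∃ (M : Matrix ι₈ (ι₄ ⊕ ι₄) F) (N : Matrix (ι₄ ⊕ ι₄) ι₈ F) (hMN : M * N = 1) (hNM : N * M = 1),
      coordEquiv M N hMN hNM sg = u ∧ coordEquiv M N hMN hNM sw = y ∧ FormTo M ∧
      Eight (R.comap (coordEquiv M N hMN hNM).toMonoidHom) := by
  obtain ⟨M, N, hMN, hNM, hsg, hsw, hM⟩ := exists_frame D.two (hR hu) (hR hy) hu2 hy2 huy
  refine ⟨M, N, hMN, hNM, hsg, hsw, hM, ⟨D.comap, ?_, ?_⟩, ?_, ?_, ?_⟩
  · show coordEquiv M N hMN hNM sg ∈ R
    rw [hsg]; exact hu
  · show coordEquiv M N hMN hNM sw ∈ R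
    rw [hsw]; exact hy
  · rw [← spGL_comap M N hMN hNM hM]
    exact Subgroup.comap_mono hR
  · rw [← hcard]
    exact Nat.card_congr ((coordEquiv M N hMN hNM).toEquiv.subtypeEquiv fun g => Iff.rfl)
  · intro A hA hA2
    let e : R.comap (coordEquiv M N hMN hNM).toMonoidHom →* R :=
      { toFun := fun g => ⟨coordEquiv M N hMN hNM g, g.2⟩
        map_one' := Subtype.ext (map_one _)
        map_mul' := fun a b => Subtype.ext (map_mul _ _ _) }
    have he : Function.Injective e := fun a b h =>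
      Subtype.ext ((coordEquiv M N hMN hNM).injective (congrArg Subtype.val h))
    rw [Nat.card_congr (A.equivMapOfInjective e he).toEquiv]
    refine hm (A.map e) ⟨⟨?_⟩⟩ ?_
    · rintro ⟨_, a, ha, rfl⟩ ⟨_, b, hb, rfl⟩
      refine Subtype.ext ?_
      show e a * e b = e b * e a
      rw [← map_mul, ← map_mul]
      exact congrArg e (congrArg Subtype.val (hA.is_comm.comm ⟨a, ha⟩ ⟨b, hb⟩))
    · rintro _ ⟨a, ha, rfl⟩
      rw [← map_mul, hA2 a ha, map_one]

/-- Elements mapping a finite group into itself normalise it. -/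
theorem mem_normalizer_of_forall {ι : Type} [Fintype ι] [DecidableEq ι] {L : Type*} [Field L] [Finite L]
    {S : Subgroup (GL ι L)} {g : GL ι L} (h : ∀ x ∈ S, g * x * g⁻¹ ∈ S) : g ∈ subgroupNormalizer S := by
  have hle : S.map (MulAut.conj g).toMonoidHom ≤ S := by
    rintro _ ⟨x, hx, rfl⟩; exact h x hx
  have heq : S.map (MulAut.conj g).toMonoidHom = S := Subgroup.eq_of_le_of_card_ge hle
    (le_of_eq (Nat.card_congr (S.equivMapOfInjective _ (MulAut.conj g).injective).toEquiv))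
  refine Subgroup.mem_normalizer_iff.2 fun x => ⟨h x, fun hx => ?_⟩
  rw [← heq] at hx
  obtain ⟨y, hy, hye⟩ := hx
  simp at hye
  rwa [← hye]

/-- What is used of the unitary or linear group of the centraliser of `J`. -/
structure ThetaBase {L : Type*} [Field L] (ψ : F →+* L) (c : L) (hc : c * c = -1) (K : Subgroup (GL (Fin 4) L)) :
    Prop where
  mem : ∀ g : ↥(centJ 4 F), (mat (theta ψ c hc g)).det = 1 → theta ψ c hc g ∈ K
  det : ∀ a ∈ K, (mat a).det = 1
  lift : ∀ a ∈ K, ∃ g : ↥(centJ 4 F), theta ψ c hc g = a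
  base : ∀ S : Subgroup (GL (Fin 4) L), IsSymplecticTypeGroup 2 S → ActsAbsolutelyIrreducibly (matrixSet S) →
    Nat.card S = 64 → Nat.card (Subgroup.center S) = 4 → S ≤ K → IsMaximalIn K (subgroupNormalizer S ⊓ K)

variable [Fintype F] {L : Type*} [Field L] [Fintype L] {ψ : F →+* L} {c : L} {hc : c * c = -1}
  {K : Subgroup (GL (Fin 4) L)} (B : ThetaBase ψ c hc K) {R H : Subgroup (GL ι₈ F)} (D : Data R)
  (hR : R ≤ Cfsg.spGL 4 F) (hcard : Nat.card R = 128) (hm : IsOfMinusType 3 R) (hJ : unitJ 4 F ∈ R)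
  (hlow : subgroupNormalizer R ⊓ Cfsg.spGL 4 F ≤ H) (hhigh : H ≤ Cfsg.spGL 4 F)
  (hplus : ∀ g ∈ H, ∀ u ∈ R, u ∉ scalars ι₈ F → u * u = 1 → g * u = u * g → g ∈ subgroupNormalizer R)
include B D hR hcard hm hJ hlow hhigh hplus

theorem cent_unitJ {g : GL ι₈ F} (hgH : g ∈ H) (hgJ : g * unitJ 4 F = unitJ 4 F * g) :
    g ∈ subgroupNormalizer R := by
  classical
  have hgC : g ∈ centJ 4 F := mem_centJ.2 ⟨hhigh hgH, hgJ⟩
  obtain ⟨θ, hθ⟩ : ∃ θ : ↥(centJ 4 F) →* GL (Fin 4) L, θ = theta ψ c hc := ⟨_, rfl⟩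
  have hinj : Function.Injective θ := hθ ▸ theta_injective hc D.two
  let RC : Subgroup ↥(centJ 4 F) := R.subgroupOf (centJ 4 F)
  obtain ⟨S, hS⟩ : ∃ S, S = RC.map θ := ⟨_, rfl⟩
  have memS : ∀ {g : ↥(centJ 4 F)}, θ g ∈ S ↔ (g : GL ι₈ F) ∈ R := fun {g} => by
    rw [hS]
    exact ⟨fun ⟨z, hz, e⟩ => hinj e ▸ hz, fun h => ⟨g, h, rfl⟩⟩
  have hJC := unitJ_mem (m := 4) (F := F)
  have hJns : unitJ 4 F ∉ scalars ι₈ F := fun h => by
    obtain ⟨k, hk⟩ := (mem_scalars_iff _).1 h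
    have := congrFun (congrFun hk (Sum.inr 0)) (Sum.inl 0)
    simp [unitJ, Matrix.J] at this
  have hsub : ∀ {z}, z ∈ R → z * unitJ 4 F = unitJ 4 F * z → z ∈ centJ 4 F := fun hz h => mem_centJ.2 ⟨hR hz, h⟩
  -- the image is absolutely irreducible
  have hspan : Submodule.span L (matrixSet S) = ⊤ := by
    let π : Matrix ι₈ ι₈ F →ₗ[F] Matrix ι₈ ι₈ F :=
      { toFun := fun M => (2 : F)⁻¹ • (M + mat (unitJ 4 F) * M * mat (unitJ 4 F)⁻¹)
        map_add' := fun M N => by simp only [Matrix.mul_add, Matrix.add_mul, smul_add]; abel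
        map_smul' := fun k M => by
          simp only [Matrix.mul_smul, Matrix.smul_mul, RingHom.id_apply, smul_smul, mul_comm k, ← smul_add] }
    let Φ : Matrix ι₈ ι₈ F → Matrix (Fin 4) (Fin 4) L := thetaMat ψ c
    have hΦadd : ∀ M N, Φ (M + N) = Φ M + Φ N := fun M N => by
      ext i j; simp [Φ, thetaMat, toBlocks₁₁, toBlocks₁₂]; ring
    have hΦsmul : ∀ (k : F) M, Φ (k • M) = ψ k • Φ M := fun k M => by
      ext i j; simp [Φ, thetaMat, toBlocks₁₁, toBlocks₁₂]; ring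
    have key : ∀ M ∈ Submodule.span F (matrixSet R), Φ (π M) ∈ Submodule.span L (matrixSet S) := by
      intro M hM
      induction hM using Submodule.span_induction with
      | mem M hM =>
        obtain ⟨z, hz, rfl⟩ := hM
        rcases D.comm _ hJ z hz with e | e
        · have e' : π (mat z) = mat z := by
            show (2 : F)⁻¹ • (mat z + _) = _
            rw [← Units.val_mul, ← Units.val_mul, e, mul_inv_cancel_right, ← two_smul F, smul_smul,
              inv_mul_cancel₀ D.two, one_smul]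
          rw [e']
          refine Submodule.subset_span ⟨θ ⟨z, hsub hz e.symm⟩, memS.2 hz, ?_⟩
          rw [hθ]; rfl
        · have e' : π (mat z) = 0 := by
            show (2 : F)⁻¹ • (mat z + _) = _
            rw [← Units.val_mul, ← Units.val_mul, e, neg_mul, mul_inv_cancel_right, Units.val_neg, add_neg_cancel,
              smul_zero]
          rw [e', show Φ 0 = 0 by simpa using hΦsmul 0 0]
          exact Submodule.zero_mem _
      | zero => rw [map_zero, show Φ 0 = 0 by simpa using hΦsmul 0 0]; exact Submodule.zero_mem _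
      | add M N _ _ h1 h2 => rw [map_add, hΦadd]; exact Submodule.add_mem _ h1 h2
      | smul k M _ h => rw [map_smul, hΦsmul]; exact Submodule.smul_mem _ _ h
    have hE : ∀ i j, Matrix.single i j (1 : L) ∈ Submodule.span L (matrixSet S) := fun i j => by
      obtain ⟨E, hE⟩ : ∃ E : Matrix ι₈ ι₈ F, E = fromBlocks (Matrix.single i j 1) 0 0 (Matrix.single i j 1) :=
        ⟨_, rfl⟩
      have hπE : π E = E := by
        show (2 : F)⁻¹ • (E + _) = E
        have : mat (unitJ 4 F) * E * mat (unitJ 4 F)⁻¹ = E := by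
          rw [hE]; simp [unitJ, Matrix.J, fromBlocks_multiply, fromBlocks_neg]
        rw [this, ← two_smul F, smul_smul, inv_mul_cancel₀ D.two, one_smul]
      have hΦE : Φ E = Matrix.single i j 1 := by
        ext a b
        simp [Φ, thetaMat, hE, toBlocks₁₁, toBlocks₁₂, Matrix.single_apply, apply_ite ψ]
      rw [← hΦE, ← hπE]
      refine key _ ?_
      rw [CfsgLib.Aschbacher.span_eq_top_of_absIrred D.abs]
      trivial
    rw [eq_top_iff]
    intro M _
    rw [Matrix.matrix_eq_sum_single M]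
    refine Submodule.sum_mem _ fun i _ => Submodule.sum_mem _ fun j _ => ?_
    rw [show Matrix.single i j (M i j) = M i j • Matrix.single i j (1 : L) by simp]
    exact Submodule.smul_mem _ _ (hE i j)
  have habs : ActsAbsolutelyIrreducibly (matrixSet S) := by
    refine ⟨fun W hW => ?_, fun M hM => ?_⟩
    · by_cases hb : W = ⊥
      · exact Or.inl hb
      obtain ⟨w, hw, hw0⟩ := Submodule.exists_mem_ne_zero_of_ne_bot hb
      have hall : ∀ (A : Matrix (Fin 4) (Fin 4) L), ∀ v ∈ W, A *ᵥ v ∈ W := fun A => by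
        have hA : A ∈ Submodule.span L (matrixSet S) := by rw [hspan]; trivial
        induction hA using Submodule.span_induction with
        | mem A hA => intro v hv; rw [← toLin'_apply]; exact hW A hA ⟨v, hv, rfl⟩
        | zero => intro v _; rw [zero_mulVec]; exact W.zero_mem
        | add A B _ _ h1 h2 => intro v hv; rw [add_mulVec]; exact W.add_mem (h1 v hv) (h2 v hv)
        | smul k A _ h => intro v hv; rw [smul_mulVec]; exact W.smul_mem k (h v hv)
      obtain ⟨i, hi⟩ := Function.ne_iff.1 hw0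
      refine Or.inr (eq_top_iff.2 fun v _ => ?_)
      have := hall (Matrix.vecMulVec v (Pi.single i (w i)⁻¹)) w hw
      rwa [vecMulVec_mulVec, single_dotProduct, inv_mul_cancel₀ hi, MulOpposite.op_one, one_smul] at this
    · have hall : ∀ A : Matrix (Fin 4) (Fin 4) L, Commute M A := fun A => by
        have hA : A ∈ Submodule.span L (matrixSet S) := by rw [hspan]; trivial
        induction hA using Submodule.span_induction with
        | mem A hA => exact hM A hA
        | zero => exact Commute.zero_right M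
        | add A B _ _ h1 h2 => exact h1.add_right h2
        | smul k A _ h => exact h.smul_right k
      obtain ⟨k, hk⟩ := Matrix.mem_range_scalar_iff_commute_single'.2 fun i j => (hall _).symm
      exact ⟨k, by rw [← hk, Matrix.scalar_apply, Matrix.smul_one_eq_diagonal]⟩
  have h2L : (2 : L) ≠ 0 := by rw [← map_ofNat ψ 2]; exact (map_ne_zero _).2 D.two
  have hθneg : θ ⟨unitJ 4 F * unitJ 4 F, mul_mem hJC hJC⟩ = -1 := Units.ext (by
    rw [hθ, theta_val]
    show thetaMat ψ c (mat (unitJ 4 F * unitJ 4 F)) = _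
    rw [unitJ_sq, Units.val_neg, Units.val_one, Units.val_neg, Units.val_one]
    ext i j
    by_cases h : i = j <;> simp [thetaMat, toBlocks₁₁, toBlocks₁₂, h])
  have DS : Data S := by
    refine ⟨h2L, habs, ?_, ?_, ?_⟩
    · rw [← hθneg, memS]; exact R.mul_mem hJ hJ
    · intro x hx
      rw [hS] at hx
      obtain ⟨z, hz, rfl⟩ := hx
      rcases D.sq _ hz with e | e
      · left; rw [← map_mul, ← map_one θ]; exact congrArg θ (Subtype.ext e)
      · right; rw [← map_mul, ← hθneg]; exact congrArg θ (Subtype.ext (e.trans unitJ_sq.symm))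
    · intro x hx y hy
      rw [hS] at hx hy
      obtain ⟨a, ha, rfl⟩ := hx
      obtain ⟨b, hb, rfl⟩ := hy
      rcases D.comm _ ha _ hb with e | e
      · left; rw [← map_mul, ← map_mul]; exact congrArg θ (Subtype.ext e)
      · right
        rw [← map_mul, ← neg_one_mul, ← hθneg, ← map_mul, ← map_mul]
        refine congrArg θ (Subtype.ext ?_)
        show (a : GL ι₈ F) * b = unitJ 4 F * unitJ 4 F * ((b : GL ι₈ F) * a)
        rw [unitJ_sq, neg_one_mul]
        exact e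
  obtain ⟨j, hjdef⟩ : ∃ j, j = θ ⟨unitJ 4 F, hJC⟩ := ⟨_, rfl⟩
  have hjS : j ∈ S := hjdef ▸ memS.2 hJ
  have hc0 : c ≠ 0 := fun e => by simp [e] at hc
  have hjs : j ∈ scalars (Fin 4) L := (mem_scalars_iff _).2 ⟨Units.mk0 (-c) (neg_ne_zero.2 hc0), by
    rw [hjdef, hθ]; exact theta_unitJ hc⟩
  have hj2 : j * j = -1 := by rw [hjdef, ← map_mul, ← hθneg]; rfl
  -- the element `y` off the centraliser
  obtain ⟨y, hy, hyJ⟩ := D.exists_anti hJ hJns
  have hyJ' : y * unitJ 4 F = -(unitJ 4 F * y) := by rw [hyJ, neg_neg]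
  have hScard : Nat.card S = 64 := by
    have e1 : Nat.card S = Nat.card RC := by
      rw [hS]; exact (Nat.card_congr (RC.equivMapOfInjective θ hinj).toEquiv).symm
    let f : RC × Bool → R := fun p => cond p.2 ⟨((p.1 : ↥(centJ 4 F)) : GL ι₈ F), p.1.2⟩
      ⟨y * ((p.1 : ↥(centJ 4 F)) : GL ι₈ F), R.mul_mem hy p.1.2⟩
    have hanti : ∀ {z : GL ι₈ F}, z * unitJ 4 F = unitJ 4 F * z → y * z * unitJ 4 F = -(unitJ 4 F * (y * z)) :=
      fun {z} hz => by rw [mul_assoc, hz, ← mul_assoc, hyJ', neg_mul, mul_assoc]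
    have hf : Function.Bijective f := by
      refine ⟨?_, fun x => ?_⟩
      · rintro ⟨a, e⟩ ⟨b, e'⟩ hab
        have hab' := congrArg Subtype.val hab
        have ca := (mem_centJ.1 (a : ↥(centJ 4 F)).2).2
        have cb := (mem_centJ.1 (b : ↥(centJ 4 F)).2).2
        cases e <;> cases e' <;> simp only [f, cond_true, cond_false] at hab'
        · rw [show a = b from Subtype.ext (Subtype.ext (mul_left_cancel hab'))]
        · exact absurd ((hanti ca).symm.trans (by rw [hab', cb])) (fun h => ne_neg D.two _ h.symm)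
        · exact absurd ((hanti cb).symm.trans (by rw [← hab', ca])) (fun h => ne_neg D.two _ h.symm)
        · rw [show a = b from Subtype.ext (Subtype.ext hab')]
      · obtain ⟨x, hx⟩ := x
        rcases D.comm x hx _ hJ with e | e
        · exact ⟨(⟨⟨x, hsub hx e⟩, hx⟩, true), rfl⟩
        · have hyx := R.mul_mem (R.inv_mem hy) hx
          have hcomm : y⁻¹ * x * unitJ 4 F = unitJ 4 F * (y⁻¹ * x) := by
            rw [mul_assoc, e, mul_neg, ← mul_assoc, ← mul_assoc, ← neg_mul]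
            congr 1
            refine mul_left_cancel (a := y) ?_
            rw [mul_neg, mul_inv_cancel_left, ← mul_assoc, hyJ', neg_mul, mul_inv_cancel_right]
          exact ⟨(⟨⟨y⁻¹ * x, hsub hyx hcomm⟩, hyx⟩, false), Subtype.ext (mul_inv_cancel_left y x)⟩
    have e2 := Nat.card_eq_of_bijective f hf
    rw [hcard, Nat.card_prod, Nat.card_eq_fintype_card (α := Bool), Fintype.card_bool] at e2
    omega
  obtain ⟨hsymp, hcen⟩ := DS.symplecticType (by simp) hjS hjs hj2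
  have mem_scalarsDet : ∀ {x : GL (Fin 4) L}, x ∈ S → (mat x).det = 1 := fun {x} hx =>
    CfsgLib.Aschbacher.mem_specialLinear_iff.1 ((SLFour.FourData.le_special ⟨h2L, hsymp, habs, hcen, 2, by rw [hScard]; norm_num⟩) hx)
  have hSK : S ≤ K := fun x hx => by
    have hd : (mat x).det = 1 := mem_scalarsDet hx
    rw [hS] at hx
    obtain ⟨z, -, rfl⟩ := hx
    rw [hθ] at hd ⊢
    exact B.mem z hd
  have hmax := B.base S hsymp habs hScard hcen hSK
  -- the image of `H`
  obtain ⟨Xp, hXp⟩ : ∃ Xp, Xp = (H.subgroupOf (centJ 4 F)).map θ ⊓ K := ⟨_, rfl⟩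
  have hN : subgroupNormalizer S ⊓ K ≤ Xp := by
    rintro a ⟨haN, haK⟩
    obtain ⟨g, hga⟩ := B.lift a haK
    rw [← hθ] at hga
    subst hga
    rw [hXp]
    refine ⟨⟨g, Subgroup.mem_subgroupOf.2 (hlow ⟨?_, (mem_centJ.1 g.2).1⟩), rfl⟩, haK⟩
    have hC : ∀ z : ↥(centJ 4 F), (z : GL ι₈ F) ∈ R → ((g * z * g⁻¹ : ↥(centJ 4 F)) : GL ι₈ F) ∈ R := fun z hz =>
      memS.1 (by rw [map_mul, map_mul, map_inv]; exact (Subgroup.mem_normalizer_iff.1 haN _).1 (memS.2 hz))
    have hC' : ∀ z : ↥(centJ 4 F), (z : GL ι₈ F) ∈ R → ((g⁻¹ * z * g : ↥(centJ 4 F)) : GL ι₈ F) ∈ R := fun z hz =>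
      memS.1 (by
        rw [map_mul, map_mul, map_inv]
        have := (Subgroup.mem_normalizer_iff.1 ((subgroupNormalizer S).inv_mem haN) _).1 (memS.2 hz)
        rwa [inv_inv] at this)
    have hyc : ∀ z : GL ι₈ F, z ∈ centJ 4 F → y * z * y⁻¹ ∈ centJ 4 F := fun z hz => by
      refine mem_centJ.2 ⟨mul_mem (mul_mem (hR hy) (mem_centJ.1 hz).1) (inv_mem (hR hy)), ?_⟩
      have e : y⁻¹ * unitJ 4 F = -(unitJ 4 F * y⁻¹) := by
        refine mul_left_cancel (a := y) ?_
        rw [mul_inv_cancel_left, mul_neg, ← mul_assoc, hyJ', neg_mul, neg_neg, mul_inv_cancel_right]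
      rw [mul_assoc, e, mul_neg, mul_assoc y z, ← mul_assoc z, (mem_centJ.1 hz).2, ← mul_assoc, ← mul_assoc, hyJ',
        neg_mul, neg_mul, neg_neg, mul_assoc, mul_assoc, mul_assoc]
    obtain ⟨w, hw⟩ : ∃ w : ↥(centJ 4 F), (w : GL ι₈ F) = y * (g : GL ι₈ F)⁻¹ * y⁻¹ :=
      ⟨⟨_, hyc _ (inv_mem g.2)⟩, rfl⟩
    obtain ⟨k, hk⟩ : ∃ k : ↥(centJ 4 F), k = g * w := ⟨_, rfl⟩
    have hkdet : (mat (θ k)).det = 1 := by
      have h1 := det_theta_conj hc hyJ' (D.sq y hy) g⁻¹ w (ψ := ψ) (by rw [hw, inv_mul_cancel_right]; rfl)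
      have h3 := det_theta_transpose (ψ := ψ) hc g⁻¹
      have h4 := B.det _ haK
      rw [hk, map_mul, Units.val_mul, det_mul, h4, one_mul, hθ, h1]
      have h5 : (mat (theta ψ c hc g⁻¹)).det = 1 := by
        have := congrArg (fun x : GL (Fin 4) L => (mat x).det) (mul_inv_cancel (θ g))
        simp only [Units.val_mul, det_mul, Units.val_one, det_one, h4, one_mul] at this
        rw [map_inv, ← hθ]; exact this
      rwa [h5, one_mul] at h3
    -- `k` acts on the classes of the centraliser trivially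
    have hksign : ∀ x ∈ S, θ k * x = x * θ k ∨ θ k * x = -(x * θ k) := by
      intro x hx
      rw [hS] at hx
      obtain ⟨z, hz, rfl⟩ := hx
      have hsg : ∀ z : GL ι₈ F, z ∈ R → y * z * y⁻¹ = z ∨ y * z * y⁻¹ = -z := fun z hz => by
        rcases D.comm y hy z hz with e | e
        · exact Or.inl (by rw [e, mul_inv_cancel_right])
        · exact Or.inr (by rw [e, neg_mul, mul_inv_cancel_right])
      have hsg' : ∀ z : GL ι₈ F, z ∈ R → y⁻¹ * z * y = z ∨ y⁻¹ * z * y = -z := fun z hz => by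
        rcases D.comm y hy z hz with e | e
        · exact Or.inl (by rw [mul_assoc, ← e, inv_mul_cancel_left])
        · exact Or.inr (by rw [mul_assoc, show z * y = -(y * z) by rw [e, neg_neg], mul_neg, inv_mul_cancel_left])
      have hres : (k : GL ι₈ F) * z * (k : GL ι₈ F)⁻¹ = z ∨ (k : GL ι₈ F) * z * (k : GL ι₈ F)⁻¹ = -z := by
        have hz1 : (g : GL ι₈ F)⁻¹ * z * g ∈ R := hC' z hz
        have eq : (k : GL ι₈ F) * z * (k : GL ι₈ F)⁻¹ =
            g * (y * ((g : GL ι₈ F)⁻¹ * (y⁻¹ * z * y) * g) * y⁻¹) * (g : GL ι₈ F)⁻¹ := by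
          rw [hk, Subgroup.coe_mul, hw]; group
        rw [eq]
        rcases hsg' (z : GL ι₈ F) hz with e | e <;> rw [e] <;> (try simp only [mul_neg, neg_mul]) <;>
          rcases hsg _ hz1 with e' | e' <;> rw [e'] <;> simp [mul_assoc]
      rcases hres with e | e
      · left; rw [← map_mul, ← map_mul]
        exact congrArg θ (Subtype.ext (mul_inv_eq_iff_eq_mul.1 e))
      · right
        rw [← map_mul, ← neg_one_mul, ← hθneg, ← map_mul, ← map_mul]
        refine congrArg θ (Subtype.ext ?_)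
        show (k : GL ι₈ F) * z = unitJ 4 F * unitJ 4 F * ((z : GL ι₈ F) * k)
        rw [unitJ_sq, neg_one_mul, ← neg_mul]
        exact mul_inv_eq_iff_eq_mul.1 e
    obtain ⟨v, hv, hvs⟩ := DS.inner hksign
    have hkS : θ k ∈ S := by
      obtain ⟨e, he⟩ := (mem_scalars_iff _).1 hvs
      have hd : ((v⁻¹ * θ k : GL (Fin 4) L) : Matrix (Fin 4) (Fin 4) L).det = 1 := by
        rw [Units.val_mul, det_mul, hkdet, mul_one, mem_scalarsDet (S.inv_mem hv)]
      rw [he, det_smul, det_one, mul_one, Fintype.card_fin] at hd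
      have h4 : (((e : L) - 1) * (e + 1)) * (((e : L) - c) * (e + c)) = 0 := by
        linear_combination hd + ((1 : L) - (e : L) * e) * hc
      obtain ⟨cj, hcj⟩ := (mem_scalars_iff j).1 hjs
      have hcjv : (cj : L) = -c := by
        have h := hcj
        rw [hjdef, hθ, theta_unitJ hc] at h
        simpa using (congrFun (congrFun h 0) 0).symm
      have val : ∀ q : GL (Fin 4) L, q ∈ S → mat q = (e : L) • 1 → θ k ∈ S := fun q hq h => by
        have : v⁻¹ * θ k = q := Units.ext (he.trans h.symm)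
        rw [← mul_inv_cancel_left v (θ k), this]
        exact S.mul_mem hv hq
      simp only [mul_eq_zero] at h4
      rcases h4 with (h | h) | (h | h)
      · exact val 1 S.one_mem (by rw [sub_eq_zero.1 h]; simp)
      · exact val (-1) DS.neg (by rw [eq_neg_of_add_eq_zero_left h]; simp)
      · exact val (-j) (DS.neg_mem hjS) (by
          rw [Units.val_neg, hcj, hcjv, sub_eq_zero.1 h, neg_smul, neg_neg])
      · exact val j hjS (by rw [hcj, hcjv, eq_neg_of_add_eq_zero_left h])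
    have hgy : (g : GL ι₈ F) * y * (g : GL ι₈ F)⁻¹ ∈ R := by
      have := R.mul_mem (memS.1 hkS) hy
      rwa [hk, Subgroup.coe_mul, hw, show (g : GL ι₈ F) * (y * (g : GL ι₈ F)⁻¹ * y⁻¹) * y =
        g * y * (g : GL ι₈ F)⁻¹ by group] at this
    -- so `g` normalises `R`
    have hall : ∀ x ∈ R, (g : GL ι₈ F) * x * (g : GL ι₈ F)⁻¹ ∈ R := by
      intro x hx
      rcases D.comm x hx _ hJ with e | e
      · exact hC ⟨x, hsub hx e⟩ hx
      · have hyx := R.mul_mem (R.inv_mem hy) hx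
        have hcomm : y⁻¹ * x * unitJ 4 F = unitJ 4 F * (y⁻¹ * x) := by
          rw [mul_assoc, e, mul_neg, ← mul_assoc, ← mul_assoc, ← neg_mul]
          congr 1
          refine mul_left_cancel (a := y) ?_
          rw [mul_neg, mul_inv_cancel_left, ← mul_assoc, hyJ', neg_mul, mul_inv_cancel_right]
        have := R.mul_mem hgy (hC ⟨_, hsub hyx hcomm⟩ hyx)
        simp only [Subgroup.coe_mul, Subgroup.coe_inv] at this
        rwa [show (g : GL ι₈ F) * x * (g : GL ι₈ F)⁻¹ =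
          g * y * (g : GL ι₈ F)⁻¹ * (g * (y⁻¹ * x) * (g : GL ι₈ F)⁻¹) by group]
    exact mem_normalizer_of_forall hall
  rcases hmax.2 Xp hN (fun a ha => by rw [hXp] at ha; exact ha.2) with hX | hX
  swap
  · -- the image is full
    exfalso
    obtain ⟨o, ho, o', ho', e1, -, e3, -, e5⟩ :=
      D.exists_orth_anti (by simp) hJ hy hJns (D.ns_of_bit (y := unitJ 4 F) ((D.bit_eq_one hy hJ).2 hyJ'))
        (fun h => by
          have := scalar_comm h (unitJ 4 F)
          rw [mul_assoc, hyJ', mul_neg, inv_mul_cancel_left, ← mul_assoc, mul_inv_cancel, one_mul] at this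
          exact ne_neg D.two _ this.symm)
    have toPlus : ∀ {o o' : GL ι₈ F}, o ∈ R → bit o (unitJ 4 F) = 0 → bit o o' = 1 → o' ∈ R →
        bit o' (unitJ 4 F) = 0 → ∃ u ∈ R, u * u = 1 ∧ bit u (unitJ 4 F) = 0 ∧ bit u o' = 1 := by
      intro o o' ho e1 e5 ho' e3
      rcases D.sq o ho with h | h
      · exact ⟨o, ho, h, e1, e5⟩
      · refine ⟨o * unitJ 4 F, R.mul_mem ho hJ, ?_, ?_, ?_⟩
        · rw [mul_assoc, ← mul_assoc (unitJ 4 F), ← bit_eq_zero.1 e1, mul_assoc o (unitJ 4 F), unitJ_sq, ← mul_assoc,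
            h, neg_mul_neg, one_mul]
        · rw [D.bit_mul ho hJ hJ, e1, bit_self, add_zero]
        · rw [D.bit_mul ho hJ ho', e5, bit_comm, e3, add_zero]
    obtain ⟨u, hu, hu2, huJ, huo'⟩ := toPlus ho e1 e5 ho' e3
    obtain ⟨y0, hy0, hy02, hy0J, hy0u⟩ := toPlus ho' e3 (by rwa [bit_comm]) hu huJ
    have huns := D.ns_of_bit huo'
    obtain ⟨M, N, hMN, hNM, hsg, hsw, hM, E⟩ :=
      exists_eight D hR hcard hm hu hy0 hu2 hy02 ((D.bit_eq_one hu hy0).1 (by rwa [bit_comm]))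
    obtain ⟨φ, hφ⟩ : ∃ φ, φ = coordEquiv M N hMN hNM := ⟨_, rfl⟩
    obtain ⟨x₀, hx₀⟩ := φ.surjective (unitJ 4 F)
    rw [← hφ] at hsg hsw E
    have hx₀R : x₀ ∈ R.comap φ.toMonoidHom := by
      show φ x₀ ∈ R
      rw [hx₀]; exact hJ
    obtain ⟨v, hv, hxv⟩ : ∃ v ∈ small (R.comap φ.toMonoidHom), x₀ = bd (v, v) := by
      obtain ⟨v, hv, e | e⟩ := E.split.comm_cases hx₀R (φ.injective (by
        rw [map_mul, map_mul, hx₀, hsg, bit_eq_zero.1 huJ]))
      · exact ⟨v, hv, e⟩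
      · exfalso
        have h1 : x₀ * sw = sw * x₀ := φ.injective (by rw [map_mul, map_mul, hx₀, hsw, bit_eq_zero.1 hy0J])
        rw [e, sw_bd, mul_left_inj, bd_inj] at h1
        exact ne_neg E.split.small_data.two _ h1.1
    have hv2 : v * v = -1 := by
      have h1 : x₀ * x₀ = -1 := φ.injective (by
        rw [map_mul, hx₀, unitJ_sq, hφ, neg_coordEquiv, map_one])
      rw [hxv, bd_mul, ← map_one bd, ← Prod.mk_one_one, ← bd_neg, bd_inj] at h1
      exact h1.1
    obtain ⟨G⟩ := SympFour.exists_five_minus E.ctx E.small_minus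
    obtain ⟨i, j', hij, hvij⟩ := root_g E.ctx G E.small_le hv hv2
    obtain ⟨l, m, n, hlm, hln, hmn, hli, hlj, hmi, hmj, hni, hnj⟩ := (by decide : ∀ i j : Fin 5, i ≠ j →
      ∃ l m n : Fin 5, l ≠ m ∧ l ≠ n ∧ m ≠ n ∧ l ≠ i ∧ l ≠ j ∧ m ≠ i ∧ m ≠ j ∧ n ≠ i ∧ n ≠ j) i j' hij
    obtain ⟨T₁, hT₁, hT₁c⟩ := exists_cycle E.ctx G E.small_le hlm hln hmn
    obtain ⟨A, hA, hAc⟩ := exists_cycle E.ctx G E.small_le hij hli.symm hlj.symm
    obtain ⟨A', hA', hA'c⟩ := exists_cycle E.ctx G E.small_le hlj.symm hmj.symm hlm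
    obtain ⟨T₂, hT₂⟩ : ∃ T₂, T₂ = A * A' := ⟨_, rfl⟩
    have hT₂N : T₂ ∈ subgroupNormalizer (small (R.comap φ.toMonoidHom)) ⊓ Cfsg.spGL 2 F :=
      hT₂ ▸ mul_mem hA hA'
    let d : Fin 5 → Fin 5 := fun q => cyc i j' l (cyc j' l m q)
    have hT₂c : ∀ q, T₂ * G.g q * T₂⁻¹ = G.g (d q) := fun q => by
      rw [hT₂, show A * A' * G.g q * (A * A')⁻¹ = A * (A' * G.g q * A'⁻¹) * A⁻¹ by group, hA'c, hAc]
    obtain ⟨hd1, hd2, hc1, hc2⟩ := (by decide : ∀ i j l m n : Fin 5, i ≠ j → l ≠ m → l ≠ n → m ≠ n → l ≠ i → l ≠ j →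
      m ≠ i → m ≠ j → n ≠ i → n ≠ j → cyc i j l (cyc j l m i) = j ∧ cyc i j l (cyc j l m j) = i ∧
        cyc l m n i = i ∧ cyc l m n j = j) i j' l m n hij hlm hln hmn hli hlj hmi hmj hni hnj
    have hTconj : ∀ (T : GL ι₄ F) a b, T * (a * b) * T⁻¹ = T * a * T⁻¹ * (T * b * T⁻¹) := fun T a b => by group
    have h1v : T₁ * v * T₁⁻¹ = v := by
      rcases hvij with e | e <;> rw [e]
      · rw [hTconj, hT₁c, hT₁c, hc1, hc2]
      · rw [mul_neg, neg_mul, hTconj, hT₁c, hT₁c, hc1, hc2]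
    have h2v : T₂ * G.g i * v * (T₂ * G.g i)⁻¹ = v := by
      have e0 : G.g i * (G.g i * G.g j') * (G.g i)⁻¹ = -(G.g i * G.g j') := by
        rw [← mul_assoc, G.sq, one_mul, inv_eq_of_mul_eq_one_right (G.sq i), G.anti j' i hij.symm]
      have e' : T₂ * (G.g i * G.g j') * T₂⁻¹ = -(G.g i * G.g j') := by
        rw [hTconj, hT₂c, hT₂c, show d i = j' from hd1, show d j' = i from hd2, G.anti j' i hij.symm]
      rw [show T₂ * G.g i * v * (T₂ * G.g i)⁻¹ = T₂ * (G.g i * v * (G.g i)⁻¹) * T₂⁻¹ by group]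
      rcases hvij with e | e <;> rw [e]
      · rw [e0, mul_neg, neg_mul, e', neg_neg]
      · rw [mul_neg (G.g i), neg_mul, e0, neg_neg, e']
    have hgiS : G.g i ∈ Cfsg.spGL 2 F := E.small_le (G.mem i)
    have mkC : ∀ T : GL ι₄ F, T ∈ Cfsg.spGL 2 F → T * v * T⁻¹ = v → φ (bd (1, T)) ∈ centJ 4 F := fun T hT hTv =>
      mem_centJ.2 ⟨by
        have : bd (1, T) ∈ (Cfsg.spGL 4 F).comap φ.toMonoidHom := by
          rw [hφ, spGL_comap M N hMN hNM hM]; exact bd_mem_pairSp.2 ⟨one_mem _, hT⟩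
        exact this, by
        rw [← hx₀, ← map_mul, ← map_mul, hxv, bd_mul, bd_mul, one_mul, mul_one, mul_inv_eq_iff_eq_mul.1 hTv]⟩
    have hP₁ := mkC T₁ hT₁.2 h1v
    have hP₂ := mkC (T₂ * G.g i) (mul_mem hT₂N.2 hgiS) h2v
    obtain ⟨P, hP⟩ : ∃ P : ↥(centJ 4 F), P = ⁅(⟨_, hP₁⟩ : ↥(centJ 4 F)), ⟨_, hP₂⟩⁆ := ⟨_, rfl⟩
    have hPdet : (mat (θ P)).det = 1 := by
      have hdet : ∀ x : GL (Fin 4) L, (mat x).det * (mat x⁻¹).det = 1 := fun x => by
        rw [← det_mul, ← Units.val_mul, mul_inv_cancel, Units.val_one, det_one]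
      rw [hP, map_commutatorElement, commutatorElement_def, Units.val_mul, Units.val_mul, Units.val_mul, det_mul,
        det_mul, det_mul]
      linear_combination (mat (θ ⟨_, hP₂⟩)).det * (mat (θ ⟨_, hP₂⟩)⁻¹).det * hdet (θ ⟨_, hP₁⟩) +
        hdet (θ ⟨_, hP₂⟩)
    have hPH : (P : GL ι₈ F) ∈ H := by
      have : θ P ∈ Xp := hX ▸ (hθ ▸ B.mem P (hθ ▸ hPdet))
      rw [hXp] at this
      obtain ⟨z, hz, e⟩ := this.1
      exact hinj e ▸ hz
    obtain ⟨b, hb⟩ : ∃ b, b = ⁅T₁, T₂ * G.g i⁆ := ⟨_, rfl⟩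
    have hPb : (P : GL ι₈ F) = φ (bd (1, b)) := by
      rw [hP, show bd (1, b) = ⁅bd (1, T₁), bd (1, T₂ * G.g i)⁆ by rw [bd_commutator, hb, commutatorElement_one_left],
        map_commutatorElement]
      rfl
    have hPu : (P : GL ι₈ F) * u = u * P := by
      rw [hPb, ← hsg, ← map_mul, ← map_mul, sg_comm_bd]
    have hbN := hplus _ hPH u hu huns hu2 hPu
    have hbN' : bd (1, b) ∈ subgroupNormalizer (R.comap φ.toMonoidHom) := by
      rw [hφ, ← normalizer_comap, Subgroup.mem_comap, ← hφ]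
      exact hPb ▸ hbN
    have hbS : b ∈ small (R.comap φ.toMonoidHom) := by
      have h1 := (Subgroup.mem_normalizer_iff.1 hbN' _).1 E.split.sw_mem
      have h2 := (R.comap φ.toMonoidHom).mul_mem h1 E.split.sw_mem
      rw [bd_inv, mul_assoc (bd (1, b)), sw_bd, ← mul_assoc (bd (1, b)), bd_mul, mul_assoc, sw_sq, mul_one,
        inv_one, one_mul, mul_one] at h2
      obtain ⟨a, ha, e | e⟩ := E.split.comm_cases h2 (sg_comm_bd _ _).symm <;> rw [bd_inj] at e
      · rw [e.2]; exact ha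
      · rw [e.2]; exact E.split.small_data.neg_mem ha
    -- but it moves a class
    let f₁ : Fin 5 → Fin 5 := cyc l m n
    have hact : ∃ q q', q ≠ q' ∧ (b * G.g q * b⁻¹ = G.g q' ∨ b * G.g q * b⁻¹ = -G.g q') := by
      have hgi : ∀ q, G.g i * G.g q * (G.g i)⁻¹ = G.g q ∨ G.g i * G.g q * (G.g i)⁻¹ = -G.g q := fun q => by
        rcases E.split.small_data.comm _ (G.mem i) _ (G.mem q) with e | e <;> rw [e]
        · exact Or.inl (mul_inv_cancel_right _ _)
        · exact Or.inr (by rw [neg_mul, mul_inv_cancel_right])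
      have h1i : ∀ q, T₁⁻¹ * G.g (f₁ q) * T₁ = G.g q := fun q => by rw [← hT₁c]; group
      have h2i : ∀ q, (T₂ * G.g i)⁻¹ * G.g (d q) * (T₂ * G.g i) = G.g q ∨
          (T₂ * G.g i)⁻¹ * G.g (d q) * (T₂ * G.g i) = -G.g q := fun q => by
        rw [← hT₂c q]
        rcases hgi q with e | e
        · left; conv_rhs => rw [show G.g q = (G.g i)⁻¹ * (G.g i * G.g q * (G.g i)⁻¹) * G.g i by group, e]
          group
        · right
          rw [show (T₂ * G.g i)⁻¹ * (T₂ * G.g q * T₂⁻¹) * (T₂ * G.g i) = (G.g i)⁻¹ * G.g q * G.g i by group]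
          conv_rhs => rw [show G.g q = (G.g i)⁻¹ * (G.g i * G.g q * (G.g i)⁻¹) * G.g i by group, e]
          simp
      obtain ⟨q, hq⟩ := (by decide : ∀ i j l m n : Fin 5, i ≠ j → l ≠ m → l ≠ n → m ≠ n → l ≠ i → l ≠ j →
        m ≠ i → m ≠ j → n ≠ i → n ≠ j → ∃ q : Fin 5, cyc l m n (cyc i j l (cyc j l m q)) ≠
          cyc i j l (cyc j l m (cyc l m n q))) i j' l m n hij hlm hln hmn hli hlj hmi hmj hni hnj
      refine ⟨d (f₁ q), f₁ (d q), fun e => hq e.symm, ?_⟩
      rw [hb, commutatorElement_def, show T₁ * (T₂ * G.g i) * T₁⁻¹ * (T₂ * G.g i)⁻¹ * G.g (d (f₁ q)) *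
          (T₁ * (T₂ * G.g i) * T₁⁻¹ * (T₂ * G.g i)⁻¹)⁻¹ =
        T₁ * ((T₂ * G.g i) * (T₁⁻¹ * ((T₂ * G.g i)⁻¹ * G.g (d (f₁ q)) * (T₂ * G.g i)) * T₁) * (T₂ * G.g i)⁻¹) *
          T₁⁻¹ by group]
      have h2 : ∀ q, T₁ * (T₂ * G.g i * G.g q * (T₂ * G.g i)⁻¹) * T₁⁻¹ = G.g (f₁ (d q)) ∨
          T₁ * (T₂ * G.g i * G.g q * (T₂ * G.g i)⁻¹) * T₁⁻¹ = -G.g (f₁ (d q)) := fun q => by
        rw [show T₂ * G.g i * G.g q * (T₂ * G.g i)⁻¹ = T₂ * (G.g i * G.g q * (G.g i)⁻¹) * T₂⁻¹ by group]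
        rcases hgi q with e | e <;> rw [e]
        · exact Or.inl (by rw [hT₂c, hT₁c])
        · exact Or.inr (by simp only [mul_neg, neg_mul]; rw [hT₂c, hT₁c])
      rcases h2i (f₁ q) with e | e <;> rw [e]
      · rw [h1i]; exact h2 q
      · simp only [mul_neg, neg_mul]
        rw [h1i]
        rcases h2 q with e' | e' <;> rw [e']
        · exact Or.inr rfl
        · exact Or.inl (neg_neg _)
    obtain ⟨q, q', hqq, hq⟩ := hact
    have hfix : b * G.g q * b⁻¹ = G.g q ∨ b * G.g q * b⁻¹ = -G.g q := by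
      rcases E.split.small_data.comm b hbS _ (G.mem q) with e | e <;> rw [e]
      · exact Or.inl (mul_inv_cancel_right _ _)
      · exact Or.inr (by rw [neg_mul, mul_inv_cancel_right])
    have hbit := bit_g E.ctx G q q'
    rw [if_neg hqq] at hbit
    have hrel : G.g q = G.g q' ∨ G.g q = -G.g q' := by
      rcases hq with e | e <;> rcases hfix with e' | e' <;> rw [e] at e'
      · exact Or.inl e'.symm
      · exact Or.inr (by rw [e', neg_neg])
      · exact Or.inr e'.symm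
      · exact Or.inl (neg_inj.1 e').symm
    rcases hrel with e | e <;> rw [e] at hbit
    · exact zero_ne_one ((bit_self _).symm.trans hbit)
    · rw [← neg_one_mul, bit_scalar_left neg_one_mem_scalars, bit_self] at hbit
      exact zero_ne_one hbit
  -- the image normalises `S`
  obtain ⟨a, ha⟩ : ∃ a, a = θ ⟨g, hgC⟩ := ⟨_, rfl⟩
  have hXN : ∀ {x : GL (Fin 4) L}, x ∈ Xp → x ∈ subgroupNormalizer S := fun {x} hx => by rw [hX] at hx; exact hx.1
  have hHX : ∀ z : ↥(centJ 4 F), (z : GL ι₈ F) ∈ H → (mat (θ z)).det = 1 → θ z ∈ Xp := fun z hz hd => by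
    rw [hXp]
    exact ⟨⟨z, hz, rfl⟩, hθ ▸ B.mem z (hθ ▸ hd)⟩
  have haN : a ∈ subgroupNormalizer S := by
    refine DS.normalizer_of_projection hjS hjs hj2 (fun x hx => ?_) fun v hv hv2 hvns t ht => ?_
    · have hd : (mat x).det = 1 := mem_scalarsDet hx
      rw [hS] at hx
      obtain ⟨z, hz, rfl⟩ := hx
      rw [ha, ← map_inv, ← map_mul, ← map_mul]
      refine hXN (hHX _ ?_ ?_)
      · exact H.mul_mem (H.mul_mem hgH (hlow ⟨Subgroup.le_normalizer hz, hR hz⟩)) (H.inv_mem hgH)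
      · rw [map_mul, map_mul, map_inv, Units.val_mul, Units.val_mul, det_units_conj, hd]
    · rw [hS] at hv
      obtain ⟨z, hz, rfl⟩ := hv
      have hz2 : (z : GL ι₈ F) * z = -1 := by
        rw [← map_mul, ← hθneg] at hv2
        exact (congrArg Subtype.val (hinj hv2)).trans unitJ_sq
      have hzns : (z : GL ι₈ F) ∉ scalars ι₈ F := fun h => by
        rcases scalar_sp (by norm_num) h (hR hz) with e | e <;> rw [e] at hz2
        · exact ne_neg D.two _ (by simpa using hz2)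
        · exact ne_neg D.two _ (by simpa using hz2)
      have A := ambient_sp D.two hR
      obtain ⟨n, hn, s, hs, hns⟩ := D.trans_root (by simp) A hz hJ hz2 unitJ_sq hzns hJns
      obtain ⟨t₁, t₂, γ, ht₁, ht₂, hγ, k, hk, hγk⟩ :=
        D.exists_pair A hz hJ hz2 unitJ_sq hzns ⟨n, D.sign_of_conj hz hJ (unitJ_sq.trans hz2.symm) hs hns⟩
      have hzJ := (mem_centJ.1 z.2).2
      have h1 : t₁ * unitJ 4 F = unitJ 4 F * t₁ := tv_comm ht₁ hzJ
      have h2 : t₂ * unitJ 4 F = unitJ 4 F * t₂ := tv_comm ht₂ rfl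
      have hγC : γ ∈ centJ 4 F := mem_centJ.2 ⟨hγ.2, by
        rw [hγk, mul_assoc, mul_assoc t₁, h2, ← mul_assoc t₁, h1, mul_assoc, ← mul_assoc k, scalar_comm hk,
          mul_assoc]⟩
      obtain ⟨δ, hδ⟩ : ∃ δ, δ = θ ⟨γ, hγC⟩ := ⟨_, rfl⟩
      have hδN : δ ∈ subgroupNormalizer S := by
        refine mem_normalizer_of_forall fun x hx => ?_
        rw [hS] at hx
        obtain ⟨w, hw, rfl⟩ := hx
        rw [hδ, ← map_inv, ← map_mul, ← map_mul, memS]
        exact (Subgroup.mem_normalizer_iff.1 hγ.1 _).1 hw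
      obtain ⟨e, he, hte⟩ : ∃ e ∈ scalars (Fin 4) L, t = e * δ := by
        obtain ⟨kc, hkc⟩ := (mem_scalars_iff k).1 hk
        have hval : mat δ = (ψ (kc : F) * (1 - c)) • mat t := by
          rw [hδ, hθ, theta_val]
          show thetaMat ψ c (mat γ) = _
          rw [hγk, Units.val_mul, Units.val_mul, hkc, Matrix.smul_mul, Matrix.one_mul]
          have hsm : thetaMat ψ c ((kc : F) • (mat t₁ * mat t₂)) =
              ψ (kc : F) • thetaMat ψ c (mat t₁ * mat t₂) := by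
            ext i j; simp [thetaMat, toBlocks₁₁, toBlocks₁₂]; ring
          rw [hsm, thetaMat_mul hc h2, mul_smul]
          congr 1
          have hlin : ∀ u : GL ι₈ F, thetaMat ψ c (1 + mat u) = 1 + thetaMat ψ c (mat u) := fun u => by
            ext i j; by_cases h : i = j <;> simp [thetaMat, toBlocks₁₁, toBlocks₁₂, h] <;> ring
          rw [ht₁, ht₂, hlin, hlin, ht, show thetaMat ψ c (mat (unitJ 4 F)) = (-c) • (1 : Matrix (Fin 4) (Fin 4) L)
            from theta_unitJ (ψ := ψ) hc, show mat (θ z) = thetaMat ψ c (mat (z : GL ι₈ F)) by rw [hθ]; rfl,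
            Matrix.mul_add, Matrix.mul_one, Matrix.mul_smul, Matrix.mul_one]
          simp only [Subgroup.coe_subtype]
          module
        have h1c : ψ (kc : F) * (1 - c) ≠ 0 := fun h => δ.ne_zero (by rw [hval, h, zero_smul])
        refine ⟨t * δ⁻¹, ?_, by group⟩
        refine (mem_scalars_iff _).2 ⟨Units.mk0 _ (inv_ne_zero h1c), ?_⟩
        rw [Units.val_mk0]
        have : mat t = (ψ (kc : F) * (1 - c))⁻¹ • mat δ := by
          rw [hval, smul_smul, inv_mul_cancel₀ h1c, one_smul]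
        rw [Units.val_mul, this, Matrix.smul_mul, Units.mul_inv]
      have hcomm : a⁻¹ * δ * a * δ⁻¹ ∈ subgroupNormalizer S := by
        rw [ha, hδ, ← map_inv, ← map_inv, ← map_mul, ← map_mul, ← map_mul]
        refine hXN (hHX _ ?_ ?_)
        · exact H.mul_mem (H.mul_mem (H.mul_mem (H.inv_mem hgH) (hlow hγ)) hgH) (H.inv_mem (hlow hγ))
        · rw [map_mul, map_mul, map_mul, map_inv, map_inv, Units.val_mul, Units.val_mul, Units.val_mul, det_mul,
            det_units_conj', ← det_mul, Units.mul_inv, det_one]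
      rw [hte, show a⁻¹ * (e * δ) * a = (a⁻¹ * e) * δ * a by group, ← scalar_comm he a⁻¹,
        show e * a⁻¹ * δ * a = e * (a⁻¹ * δ * a * δ⁻¹ * δ) by group]
      exact mul_mem (scalar_mem_normalizer he S) (mul_mem hcomm hδN)
  -- move an involution back
  obtain ⟨o, ho, o', ho', e1, -, e3, -, e5⟩ :=
    D.exists_orth_anti (by simp) hJ hy hJns (D.ns_of_bit (y := unitJ 4 F) ((D.bit_eq_one hy hJ).2 hyJ'))
      (fun h => by
        have := scalar_comm h (unitJ 4 F)
        rw [mul_assoc, hyJ', mul_neg, inv_mul_cancel_left, ← mul_assoc, mul_inv_cancel, one_mul] at this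
        exact ne_neg D.two _ this.symm)
  obtain ⟨u, hu, hu2, huJ, huns⟩ : ∃ u ∈ R, u * u = 1 ∧ u * unitJ 4 F = unitJ 4 F * u ∧ u ∉ scalars ι₈ F := by
    rcases D.sq o ho with h | h
    · exact ⟨o, ho, h, bit_eq_zero.1 e1, D.ns_of_bit e5⟩
    · refine ⟨o * unitJ 4 F, R.mul_mem ho hJ, ?_, ?_, D.ns_of_bit (y := o') ?_⟩
      · rw [mul_assoc, ← mul_assoc (unitJ 4 F), ← bit_eq_zero.1 e1, mul_assoc o (unitJ 4 F), unitJ_sq, ← mul_assoc,
          h, neg_mul_neg, one_mul]
      · rw [bit_eq_zero.1 e1, mul_assoc, bit_eq_zero.1 e1]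
      · rw [D.bit_mul ho hJ ho', e5, bit_comm, e3, add_zero]
  have hgu : g * u * g⁻¹ ∈ R := by
    have := (Subgroup.mem_normalizer_iff.1 haN _).1 ((memS (g := ⟨u, hsub hu huJ⟩)).2 hu)
    rw [ha, ← map_inv, ← map_mul, ← map_mul, memS] at this
    exact this
  have hguns : g * u * g⁻¹ ∉ scalars ι₈ F := fun h => huns (by
    rw [show u = g⁻¹ * (g * u * g⁻¹) * g by group, ← scalar_comm h g⁻¹, inv_mul_cancel_right]; exact h)
  obtain ⟨n, hn, hnu⟩ := D.trans_plus (ambient_sp D.two hR) (by simp) hgu hu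
    (by rw [show g * u * g⁻¹ * (g * u * g⁻¹) = g * (u * u) * g⁻¹ by group, hu2]; group) hu2 hguns huns
  obtain ⟨w, hw, hwu⟩ := D.exists_anti hu huns
  have hngH : n * g ∈ H := H.mul_mem (hlow hn) hgH
  have hmain : n * g ∈ subgroupNormalizer R := by
    rcases hnu with e | e
    · refine hplus _ hngH u hu huns hu2 (mul_inv_eq_iff_eq_mul.1 ?_)
      rw [show n * g * u * (n * g)⁻¹ = n * (g * u * g⁻¹) * n⁻¹ by group, e]
    · have e' : n * g * u = -(u * (n * g)) := by
        rw [← neg_mul, ← mul_inv_eq_iff_eq_mul, show n * g * u * (n * g)⁻¹ = n * (g * u * g⁻¹) * n⁻¹ by group, e]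
      have := hplus (w * (n * g)) (H.mul_mem (hlow ⟨Subgroup.le_normalizer hw, hR hw⟩) hngH) u hu huns hu2 (by
        rw [mul_assoc, e', mul_neg, show u * (w * (n * g)) = u * w * (n * g) by group, hwu, neg_mul, mul_assoc w u])
      have hk := mul_mem (inv_mem (Subgroup.le_normalizer hw : w ∈ subgroupNormalizer R)) this
      rwa [inv_mul_cancel_left] at hk
  simpa using mul_mem ((subgroupNormalizer R).inv_mem hn.1) hmain

end CfsgLib.SpEight
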