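import Cfsg.Agent.SpEight.Small
import Cfsg.Agent.Forms4.SymplecticSimple

/-!
# Centralisers of involutions of `R` in an overgroup of the normaliser
-/

set_option autoImplicit false
set_option linter.unusedSectionVars false

namespace CfsgLib.SpEight

open Matrix Cfsg.Geo CfsgLib.SympType
open scoped commutatorElement

local notation:max "mat" => Units.val
local notation "ι₄" => (Fin 2 ⊕ Fin 2)
local notation "ι₈" => (Fin 4 ⊕ Fin 4)

variable {F : Type*} [Field F]

/-- A subgroup normalised by `Sp` with a non-scalar element of `Sp` contains `Sp`. -/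
theorem spGL_le_of_normalized {m : ℕ} (hm : 2 ≤ m) (h2 : (2 : F) ≠ 0) {K : Subgroup (GL (Fin m ⊕ Fin m) F)}
    (hn : ∀ h ∈ Cfsg.spGL m F, ∀ k ∈ K, k ∈ Cfsg.spGL m F → h * k * h⁻¹ ∈ K)
    {r : GL (Fin m ⊕ Fin m) F} (hr : r ∈ K) (hrS : r ∈ Cfsg.spGL m F)
    (hns : r ∉ scalars (Fin m ⊕ Fin m) F) : Cfsg.spGL m F ≤ K := by
  let f : Matrix.symplecticGroup (Fin m) F →* GL (Fin m ⊕ Fin m) F :=
    { toFun := fun A => ⟨A.1, (A⁻¹).1, by rw [← Submonoid.coe_mul, mul_inv_cancel]; rfl,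
        by rw [← Submonoid.coe_mul, inv_mul_cancel]; rfl⟩
      map_one' := Units.ext rfl
      map_mul' := fun A B => Units.ext rfl }
  have hf : ∀ A, f A ∈ Cfsg.spGL m F := fun A =>
    MaxSub.mem_spGL_iff.2 (Forms.mem_symplecticGroup_iff_form.1 A.2)
  have hsurj : ∀ g ∈ Cfsg.spGL m F, ∃ A, f A = g := fun g hg =>
    ⟨⟨mat g, Forms.mem_symplecticGroup_iff_form.2 (MaxSub.mem_spGL_iff.1 hg)⟩, Units.ext rfl⟩
  haveI : (K.comap f).Normal := ⟨fun k hk g => by
    show f (g * k * g⁻¹) ∈ K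
    rw [map_mul, map_mul, map_inv]
    exact hn _ (hf g) _ hk (hf k)⟩
  obtain ⟨A, rfl⟩ := hsurj r hrS
  rcases Forms4.normal_eq_top_or_le_center (by omega) (Forms4.commutator_Sp_eq_top (Or.inr (Or.inl ⟨hm, h2⟩)))
    (K.comap f) with h | h
  · intro g hg
    obtain ⟨B, rfl⟩ := hsurj g hg
    exact (h ▸ Subgroup.mem_top B : B ∈ K.comap f)
  · exfalso
    haveI : Nonempty (Fin m ⊕ Fin m) := ⟨Sum.inl ⟨0, by omega⟩⟩
    obtain ⟨c, hc⟩ := Forms4.mem_center_iff.1 (h (show A ∈ K.comap f from hr))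
    refine hns ((mem_scalars_iff _).2 ⟨Units.mk0 c ?_, hc⟩)
    rintro rfl
    exact (f A).ne_zero (show A.1 = 0 by rw [hc, zero_smul])

variable [Finite F] {R : Subgroup (GL (ι₄ ⊕ ι₄) F)}

theorem diag_normalizer (S : Split R) {a : GL ι₄ F} (ha : a ∈ subgroupNormalizer (small R)) :
    bd (a, a) ∈ subgroupNormalizer R := by
  refine S.mem_normalizer (fun y hy => ?_) ?_ ?_
  · rw [bd_inv, bd_mul, bd_mul]; exact (Subgroup.mem_normalizer_iff.1 ha y).1 hy
  · rw [← sg_comm_bd, mul_inv_cancel_right]; exact S.sg_mem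
  · rw [← sw_bd, mul_inv_cancel_right]; exact S.sw_mem

theorem right_normalizer (S : Split R) {r : GL ι₄ F} (hr : r ∈ small R) :
    bd (1, r) ∈ subgroupNormalizer R := by
  have D' := S.small_data
  refine S.mem_normalizer (fun y hy => ?_) ?_ ?_
  · rw [bd_inv, bd_mul, bd_mul, inv_one, one_mul, mul_one]
    rcases D'.comm r hr y hy with e | e
    · rw [e, mul_inv_cancel_right]; exact hy
    · rw [e, neg_mul, mul_inv_cancel_right]; exact S.sign_mem hy
  · rw [← sg_comm_bd, mul_inv_cancel_right]; exact S.sg_mem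
  · rw [bd_inv, mul_assoc, sw_bd, ← mul_assoc, bd_mul, inv_one, one_mul, mul_one]
    refine R.mul_mem ?_ S.sw_mem
    rcases D'.sq r hr with h | h
    · rw [inv_eq_of_mul_eq_one_right h]; exact hr
    · rw [inv_eq_of_mul_eq_one_right (show r * -r = 1 by rw [mul_neg, h, neg_neg]),
        show bd (-r, r) = -bd (r, -r) by rw [← bd_neg, neg_neg], ← neg_one_mul]
      exact R.mul_mem S.data.neg (S.sign_mem hr)

/-- An overgroup of the normaliser, in coordinates. -/
structure OverPlus (R H : Subgroup (GL (ι₄ ⊕ ι₄) F)) : Prop where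
  eight : Eight R
  le : H ≤ pairSp F
  low : subgroupNormalizer R ⊓ pairSp F ≤ H
  trans : ∀ a ∈ R, a ∉ scalars (ι₄ ⊕ ι₄) F → a * a = 1 →
    ∃ n ∈ subgroupNormalizer R ⊓ pairSp F, n * a * n⁻¹ = sg ∨ n * a * n⁻¹ = -(sg : GL (ι₄ ⊕ ι₄) F)

variable {H : Subgroup (GL (ι₄ ⊕ ι₄) F)} (O : OverPlus R H)
include O

theorem OverPlus.le_H : R ≤ H := fun _ hx => O.low ⟨Subgroup.le_normalizer hx, O.eight.le hx⟩

theorem OverPlus.diag_mem {a : GL ι₄ F} (ha : a ∈ subgroupNormalizer (small R)) (haS : a ∈ Cfsg.spGL 2 F) :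
    bd (a, a) ∈ H :=
  O.low ⟨diag_normalizer O.eight.split ha, bd_mem_pairSp.2 ⟨haS, haS⟩⟩

theorem OverPlus.right_mem {r : GL ι₄ F} (hr : r ∈ small R) : bd (1, r) ∈ H :=
  O.low ⟨right_normalizer O.eight.split hr, bd_mem_pairSp.2 ⟨one_mem _, O.eight.small_le hr⟩⟩

/-- The blocks are controlled in a proper overgroup. -/
theorem OverPlus.centData [Fintype F] (hp : (Fintype.card F).Prime) {M : Matrix ι₈ (ι₄ ⊕ ι₄) F}
    {N : Matrix (ι₄ ⊕ ι₄) ι₈ F} {hMN : M * N = 1} {hNM : N * M = 1} (hM : FormTo M) (hne : ¬ pairSp F ≤ H) :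
    CentData R H := by
  classical
  have S := O.eight.split
  have D := S.data
  have D' := S.small_data
  have hswap : ∀ {a b : GL ι₄ F}, bd (a, b) ∈ H → bd (b, a) ∈ H := fun {a b} h => by
    rw [← sw_conj]; exact H.mul_mem (H.mul_mem (O.le_H S.sw_mem) h) (H.inv_mem (O.le_H S.sw_mem))
  have hbns : ∀ {r : GL ι₄ F}, r ∉ scalars ι₄ F → bd (r, r) ∉ scalars (ι₄ ⊕ ι₄) F := fun {r} hr h =>
    hr (D'.scalar_of_comm fun y _ => by
      have := scalar_comm h (bd (y, y))
      rw [bd_mul, bd_mul, bd_inj] at this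
      exact this.1)
  have htr : ∀ r ∈ small R, r ∉ scalars ι₄ F → r * r = 1 → ∃ m ∈ subgroupNormalizer R ⊓ H,
      m * bd (r, r) * m⁻¹ = sg ∨ m * bd (r, r) * m⁻¹ = -(sg : GL (ι₄ ⊕ ι₄) F) := fun r hr hns hr2 => by
    obtain ⟨n, hn, h⟩ := O.trans _ (mem_small.1 hr) (hbns hns) (by rw [bd_mul, hr2]; exact map_one bd)
    exact ⟨n, ⟨hn.1, O.low hn⟩, h⟩
  let Xp : Subgroup (GL ι₄ F) :=
    { carrier := {a | ∃ b, bd (a, b) ∈ H}
      one_mem' := ⟨1, by rw [show bd ((1 : GL ι₄ F), (1 : GL ι₄ F)) = 1 from map_one bd]; exact H.one_mem⟩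
      mul_mem' := fun {a c} ⟨b, hb⟩ ⟨d, hd⟩ => ⟨b * d, by rw [← bd_mul]; exact H.mul_mem hb hd⟩
      inv_mem' := fun {a} ⟨b, hb⟩ => ⟨b⁻¹, by rw [← bd_inv]; exact H.inv_mem hb⟩ }
  rcases (O.eight.base hp).2 Xp (fun a ha => ⟨a, O.diag_mem ha.1 ha.2⟩)
    (fun a ⟨b, hb⟩ => (bd_mem_pairSp.1 (O.le hb)).1) with hX | hX
  · refine ⟨S, O.le_H, fun a b hab => ?_, fun r hr => O.right_mem hr, htr⟩
    have : a ∈ Xp := ⟨b, hab⟩
    rw [hX] at this
    exact this.1
  exfalso
  obtain ⟨G⟩ := SympFour.exists_five_minus O.eight.ctx O.eight.small_minus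
  have hgns : G.g 0 ∉ scalars ι₄ F := g_not_scalar O.eight.ctx G 0
  let K : Subgroup (GL ι₄ F) := H.comap (bd.comp ((1 : GL ι₄ F →* GL ι₄ F).prod (MonoidHom.id _)))
  have hK : ∀ {k}, k ∈ K ↔ bd (1, k) ∈ H := Iff.rfl
  have hKS : Cfsg.spGL 2 F ≤ K := by
    refine spGL_le_of_normalized le_rfl D.two (fun h hh k hk _ => ?_) (O.right_mem (G.mem 0))
      (O.eight.small_le (G.mem 0)) hgns
    obtain ⟨b, hb⟩ : h ∈ Xp := hX ▸ hh
    have := H.mul_mem (H.mul_mem (hswap hb) (hK.1 hk)) (H.inv_mem (hswap hb))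
    rw [bd_inv, bd_mul, bd_mul, mul_one, mul_inv_cancel] at this
    exact this
  obtain ⟨n, hn, hns⟩ := htr _ (G.mem 0) hgns (G.sq 0)
  refine hne (pairSp_le_of_blocks D.two hM (hMN := hMN) (hNM := hNM) O.le (fun a ha b hb => ?_) (O.le_H S.sw_mem)
    (H.inv_mem hn.2) ?_ ?_)
  · have := H.mul_mem (hswap (hK.1 (hKS ha))) (hK.1 (hKS hb))
    rwa [bd_mul, mul_one, one_mul] at this
  all_goals
    intro e
    have h1 : n⁻¹ * sg * n⁻¹⁻¹ = bd (G.g 0, G.g 0) ∨ n⁻¹ * sg * n⁻¹⁻¹ = -bd (G.g 0, G.g 0) := by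
      rcases hns with h | h
      · left; rw [← h]; group
      · right; rw [← neg_neg (sg : GL (ι₄ ⊕ ι₄) F), ← h, mul_neg, neg_mul]; group
    rw [e] at h1
    rcases h1 with h1 | h1 <;> simp only [sg, ← bd_neg, bd_inj, neg_neg] at h1
    all_goals
      refine hgns ?_
      first
        | (rw [show G.g 0 = -1 from neg_eq_iff_eq_neg.1 h1.1.symm]; exact neg_one_mem_scalars)
        | (rw [show G.g 0 = -1 from neg_eq_iff_eq_neg.1 h1.2.symm]; exact neg_one_mem_scalars)
        | (rw [← h1.1]; exact one_mem _)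
        | (rw [← h1.1]; exact neg_one_mem_scalars)
        | (rw [← h1.2]; exact one_mem _)
        | (rw [← h1.2]; exact neg_one_mem_scalars)

variable (C : CentData R H)
include C

/-- The second blocks over a trivial first block lie in the small group. -/
theorem OverPlus.small_of_mem {k : GL ι₄ F} (hk : bd (1, k) ∈ H) : k ∈ small R := by
  classical
  have S := O.eight.split
  have D := S.small_data
  have h := O.eight.ctx
  have hle := O.eight.small_le
  obtain ⟨G⟩ := SympFour.exists_five_minus h O.eight.small_minus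
  have two : ∀ c : ZMod 2, c = 0 ∨ c = 1 := by decide
  have hginj : ∀ {i j : Fin 5}, (G.g i = G.g j ∨ G.g i = -G.g j) → i = j := fun {i j} e => by
    by_contra hne
    have hb := bit_g h G i j
    rw [if_neg hne] at hb
    rcases e with e | e <;> rw [e] at hb
    · exact zero_ne_one ((bit_self (G.g j)).symm.trans hb)
    · rw [← neg_one_mul, bit_scalar_left neg_one_mem_scalars, bit_self] at hb
      exact zero_ne_one hb
  -- the action on the five classes
  have hact : ∀ k, bd (1, k) ∈ H → ∃ f : Fin 5 → Fin 5, Function.Injective f ∧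
      ∀ v, k * G.g v * k⁻¹ = G.g (f v) ∨ k * G.g v * k⁻¹ = -G.g (f v) := fun k hk => by
    have hkN := (C.proj₂ hk).2
    have : ∀ v, ∃ j, k * G.g v * k⁻¹ = G.g j ∨ k * G.g v * k⁻¹ = -G.g j := fun v =>
      involution_g h G hle ((Subgroup.mem_normalizer_iff.1 hkN _).1 (G.mem v))
        (fun hs => g_not_scalar h G v (by
          rw [show G.g v = k⁻¹ * (k * G.g v * k⁻¹) * k by group, ← scalar_comm hs k⁻¹, inv_mul_cancel_right]
          exact hs))
        (by rw [show k * G.g v * k⁻¹ * (k * G.g v * k⁻¹) = k * (G.g v * G.g v) * k⁻¹ by group, G.sq]; group)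
    choose f hf using this
    refine ⟨f, fun a b e => hginj ?_, hf⟩
    have ha := hf a
    have hb := hf b
    rw [e] at ha
    have hh : k * G.g a * k⁻¹ = k * G.g b * k⁻¹ ∨ k * G.g a * k⁻¹ = -(k * G.g b * k⁻¹) := by
      rcases ha with ha | ha <;> rcases hb with hb | hb <;> rw [ha, hb] <;> simp
    rcases hh with hh | hh
    · exact Or.inl (mul_left_cancel (mul_right_cancel hh))
    · rw [show -(k * G.g b * k⁻¹) = k * -G.g b * k⁻¹ by rw [mul_neg, neg_mul]] at hh
      exact Or.inr (mul_left_cancel (mul_right_cancel hh))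
  -- two fixed classes and a moved one are impossible
  have hbad : ∀ k, bd (1, k) ∈ H → ∀ f : Fin 5 → Fin 5, Function.Injective f →
      (∀ v, k * G.g v * k⁻¹ = G.g (f v) ∨ k * G.g v * k⁻¹ = -G.g (f v)) → ¬ FixTwo f := by
    rintro k hk f hfi hf ⟨l, m, hlm, hl, hm, n, hn⟩
    have hml : m ≠ l := hlm.ne'
    have hnm : n ≠ m := fun e => hn (e ▸ hm)
    have hnl : n ≠ l := fun e => hn (e ▸ hl)
    have hfnm : f n ≠ m := fun e => hnm (hfi (e.trans hm.symm))
    obtain ⟨k', hk', hkl, hk'f⟩ : ∃ k', bd (1, k') ∈ H ∧ k' * G.g l = G.g l * k' ∧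
        ∀ v, k' * G.g v * k'⁻¹ = G.g (f v) ∨ k' * G.g v * k'⁻¹ = -G.g (f v) := by
      have hl' := hf l
      rw [hl] at hl'
      rcases hl' with e | e
      · exact ⟨k, hk, mul_inv_eq_iff_eq_mul.1 e, hf⟩
      · refine ⟨k * G.g m, by
          rw [← one_mul (1 : GL ι₄ F), ← bd_mul]; exact H.mul_mem hk (O.right_mem (G.mem m)), ?_, fun v => ?_⟩
        · rw [mul_inv_eq_iff_eq_mul, neg_mul] at e
          rw [mul_assoc, G.anti m l hml, mul_neg, ← mul_assoc, e, neg_mul, neg_neg, mul_assoc]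
        · rw [show k * G.g m * G.g v * (k * G.g m)⁻¹ = k * (G.g m * G.g v * (G.g m)⁻¹) * k⁻¹ by group]
          rcases D.comm _ (G.mem m) _ (G.mem v) with c | c <;> rw [c]
          · rw [mul_inv_cancel_right]; exact hf v
          · rw [neg_mul, mul_inv_cancel_right, mul_neg, neg_mul]
            rcases hf v with e' | e' <;> rw [e']
            · exact Or.inr rfl
            · exact Or.inl (neg_neg _)
    obtain ⟨x, hx⟩ : ∃ x, x = G.g m * G.g n := ⟨_, rfl⟩
    have hxR : x ∈ small R := hx ▸ (small R).mul_mem (G.mem m) (G.mem n)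
    have hxl : x * G.g l = G.g l * x := by
      refine bit_eq_zero.1 ?_
      rw [hx, D.bit_mul (G.mem m) (G.mem n) (G.mem l), bit_g h G, bit_g h G, if_neg hml, if_neg hnl]
      rfl
    have key := C.key hk' (one_mem _) (G.mem l) (g_not_scalar h G l) (G.sq l) hkl hxR hxl
    have hk'N := (C.proj₂ hk').2
    have hcR : k' * x * k'⁻¹ ∈ small R := (Subgroup.mem_normalizer_iff.1 hk'N x).1 hxR
    have hcb : ∀ q, bit (⁅k', x⁆) (G.g q) = bit (G.g (f n)) (G.g q) + bit (G.g n) (G.g q) := fun q => by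
      have hsq : ∀ {y : GL ι₄ F}, y ∈ small R → bit y⁻¹ (G.g q) = bit y (G.g q) := fun {y} hy => by
        have e := D.bit_mul ((small R).inv_mem hy) hy (G.mem q)
        rw [inv_mul_cancel, bit_eq_zero.2 (by simp)] at e
        exact (by decide : ∀ a b : ZMod 2, 0 = a + b → a = b) _ _ e
      rw [commutatorElement_def, D.bit_mul hcR ((small R).inv_mem hxR) (G.mem q), hsq hxR]
      have hfix : ∀ v, bit (k' * G.g v * k'⁻¹) (G.g q) = bit (G.g (f v)) (G.g q) := fun v => by
        rcases hk'f v with e | e <;> rw [e]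
        rw [← neg_one_mul, bit_scalar_left neg_one_mem_scalars]
      rw [hx, show k' * (G.g m * G.g n) * k'⁻¹ = (k' * G.g m * k'⁻¹) * (k' * G.g n * k'⁻¹) by group,
        D.bit_mul ((Subgroup.mem_normalizer_iff.1 hk'N _).1 (G.mem m))
          ((Subgroup.mem_normalizer_iff.1 hk'N _).1 (G.mem n)) (G.mem q), hfix, hfix, hm,
        D.bit_mul (G.mem m) (G.mem n) (G.mem q)]
      exact (by decide : ∀ a b c : ZMod 2, a + b + (a + c) = b + c) _ _ _
    rcases key with e | e
    · have := hcb n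
      rw [bit_eq_zero.2 (scalar_comm e _), bit_g h G, bit_g h G, if_neg hn, if_pos rfl] at this
      exact absurd this (by decide)
    · have hcm : ⁅k', x⁆ ∈ small R := (small R).mul_mem hcR ((small R).inv_mem hxR)
      have := D.bit_mul (G.mem l) hcm (G.mem m)
      rw [bit_eq_zero.2 (scalar_comm e _), hcb, bit_g h G, bit_g h G, bit_g h G, if_neg hml.symm, if_neg hfnm,
        if_neg hnm] at this
      exact absurd this (by decide)
  -- the action is trivial
  obtain ⟨f, hfi, hf⟩ := hact k hk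
  have hid : ∀ v, f v = v := by
    by_contra hne
    push Not at hne
    rcases exists_fixTwo hfi hne with hb | ⟨i, j, l, hij, hil, hjl, hb⟩
    · exact hbad k hk f hfi hf hb
    obtain ⟨T, hT, hTc⟩ := exists_cycle h G hle hij hil hjl
    have hTi : ∀ w, T⁻¹ * G.g w * T = G.g (cyc i j l (cyc i j l w)) := fun w => by
      have e := hTc (cyc i j l (cyc i j l w))
      rw [(by decide : ∀ i j l : Fin 5, i ≠ j → i ≠ l → j ≠ l → ∀ w, cyc i j l (cyc i j l (cyc i j l w)) = w)
        i j l hij hil hjl w] at e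
      rw [← e]; group
    refine hbad (T * k * T⁻¹ * k) ?_ (twist f i j l) ?_ (fun v => ?_) hb
    · have := H.mul_mem (H.mul_mem (H.mul_mem (O.diag_mem hT.1 hT.2) hk) (H.inv_mem (O.diag_mem hT.1 hT.2))) hk
      rw [bd_inv, bd_mul, bd_mul, bd_mul] at this
      simp only [mul_one, mul_inv_cancel] at this
      exact this
    · have hc : Function.Injective (cyc i j l) := fun a b e => by
        have hc3 := (by decide : ∀ i j l : Fin 5, i ≠ j → i ≠ l → j ≠ l → ∀ w, cyc i j l (cyc i j l (cyc i j l w)) = w)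
          i j l hij hil hjl
        rw [← hc3 a, e, hc3]
      exact fun a b e => hfi (hc (hc (hfi (hc e))))
    · rw [show T * k * T⁻¹ * k * G.g v * (T * k * T⁻¹ * k)⁻¹ =
        T * (k * (T⁻¹ * (k * G.g v * k⁻¹) * T) * k⁻¹) * T⁻¹ by group]
      have step : T * (k * (T⁻¹ * G.g (f v) * T) * k⁻¹) * T⁻¹ = G.g (twist f i j l v) ∨
          T * (k * (T⁻¹ * G.g (f v) * T) * k⁻¹) * T⁻¹ = -G.g (twist f i j l v) := by
        rw [hTi]
        rcases hf (cyc i j l (cyc i j l (f v))) with e | e <;> rw [e]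
        · exact Or.inl (hTc _)
        · exact Or.inr (by rw [mul_neg, neg_mul, hTc]; rfl)
      rcases hf v with e | e <;> rw [e]
      · exact step
      · simp only [mul_neg, neg_mul]
        rcases step with s | s <;> rw [s]
        · exact Or.inr rfl
        · exact Or.inl (neg_neg _)
  have hk_sign : ∀ x ∈ small R, k * x = x * k ∨ k * x = -(x * k) := by
    intro x hx
    have hg : ∀ v, k * G.g v * k⁻¹ = G.g v ∨ k * G.g v * k⁻¹ = -G.g v := fun v => by
      have := hf v; rwa [hid v] at this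
    suffices k * x * k⁻¹ = x ∨ k * x * k⁻¹ = -x by
      rcases this with e | e
      · exact Or.inl (mul_inv_eq_iff_eq_mul.1 e)
      · exact Or.inr (by rw [← neg_mul]; exact mul_inv_eq_iff_eq_mul.1 e)
    have hprod : ∀ i j, k * (G.g i * G.g j) * k⁻¹ = G.g i * G.g j ∨ k * (G.g i * G.g j) * k⁻¹ = -(G.g i * G.g j) :=
      fun i j => by
      rw [show k * (G.g i * G.g j) * k⁻¹ = (k * G.g i * k⁻¹) * (k * G.g j * k⁻¹) by group]
      rcases hg i with e | e <;> rcases hg j with e' | e' <;> rw [e, e'] <;> simp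
    rcases cases_g h G hle hx with (e | e) | ⟨v, e | e⟩ | ⟨i, j, -, e | e⟩
    · left; rw [e]; simp
    · left; rw [e]; simp
    · rw [e]; exact hg v
    · rw [e]; rcases hg v with e' | e' <;> simp [e']
    · rw [e]; exact hprod i j
    · rw [e]
      simp only [mul_neg, neg_mul]
      rcases hprod i j with e' | e' <;> rw [e'] <;> simp
  obtain ⟨w, hw, hwk⟩ := D.inner hk_sign
  have hks : k ∈ Cfsg.spGL 2 F := (bd_mem_pairSp.1 (O.le hk)).2
  rcases scalar_sp (by norm_num) hwk (mul_mem (inv_mem (hle hw)) hks) with e | e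
  · rw [inv_mul_eq_one] at e; exact e ▸ hw
  · rw [inv_mul_eq_iff_eq_mul] at e
    rw [e]
    exact (small R).mul_mem hw D.neg

/-- Block-diagonal elements of `H` normalise `R`. -/
theorem OverPlus.bd_mem {a b : GL ι₄ F} (hg : bd (a, b) ∈ H) : bd (a, b) ∈ subgroupNormalizer R := by
  have ha := (C.proj₂ hg).1
  have haS := (bd_mem_pairSp.1 (O.le hg)).1
  have hw := O.small_of_mem C (k := a⁻¹ * b) (by
    have := H.mul_mem (H.inv_mem (O.diag_mem ha haS)) hg
    rwa [bd_inv, bd_mul, inv_mul_cancel] at this)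
  rw [show bd (a, b) = bd (a, a) * bd (1, a⁻¹ * b) by rw [bd_mul, mul_one, mul_inv_cancel_left]]
  exact mul_mem (diag_normalizer O.eight.split ha) (right_normalizer O.eight.split hw)

end CfsgLib.SpEight
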