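import Cfsg.Agent.SpEight.Frame
import Cfsg.Agent.SpEight.Cycles
import Cfsg.Agent.SympType.Fusion
import Cfsg.Agent.SympFour.Common
import Cfsg.Agent.SympFour.Models
import Cfsg.Agent.SLEight.SymplecticType
import Cfsg.Agent.SpFourOdd.Extraspecial
import Cfsg.Agent.OrthMono.Five

/-!
# The small group in `Sp₄` of a symplectic type group `2^{1+6}₋` of `Sp₈`
-/

set_option autoImplicit false
set_option linter.unusedSectionVars false

namespace CfsgLib.SpEight

open Matrix Cfsg.Geo CfsgLib.SympType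

local notation:max "mat" => Units.val
local notation "ι₄" => (Fin 2 ⊕ Fin 2)
local notation "ι₈" => (Fin 4 ⊕ Fin 4)

variable {F : Type*} [Field F]

/-- Symplectic scalars are signs. -/
theorem scalar_sp {m : ℕ} (hm : 0 < m) {s : GL (Fin m ⊕ Fin m) F} (hs : s ∈ scalars (Fin m ⊕ Fin m) F)
    (h : s ∈ Cfsg.spGL m F) : s = 1 ∨ s = -1 := by
  obtain ⟨c, hc⟩ := (mem_scalars_iff s).1 hs
  have h1 := MaxSub.mem_spGL_iff.1 h (Pi.single (Sum.inr ⟨0, hm⟩) 1) (Pi.single (Sum.inl ⟨0, hm⟩) 1)
  rw [hc, smul_mulVec, smul_mulVec, one_mulVec, one_mulVec, MaxSub.sesq_sympForm.smul_left,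
    MaxSub.sesq_sympForm.smul_right, Forms.sympForm_single_inl] at h1
  simp at h1
  rcases mul_self_eq_one_iff.1 h1 with h' | h'
  · exact Or.inl (Units.ext (by rw [hc, h']; simp))
  · exact Or.inr (Units.ext (by rw [hc, h']; simp))

section Five

variable {R : Subgroup (GL ι₄ F)} (h : SympFour.Ctx R) (D : SympFour.Five R) (hR : R ≤ Cfsg.spGL 2 F)
include h

theorem ctx_data : Data R := ⟨h.two, h.absIrred, h.negMem, h.sq, h.comm⟩

theorem bit_g (i j : Fin 5) : bit (D.g i) (D.g j) = if i = j then 0 else 1 := by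
  by_cases e : i = j
  · rw [if_pos e, e, bit_self]
  · rw [if_neg e, (ctx_data h).bit_eq_one (D.mem i) (D.mem j)]
    exact D.anti i j e

theorem g_not_scalar (i : Fin 5) : D.g i ∉ scalars ι₄ F :=
  (ctx_data h).ns_of_bit (y := D.g (i + 1)) (by rw [bit_g h D, if_neg (by simp)])

theorem scalar_of_bits {x : GL ι₄ F} (hx : x ∈ R) (hb : ∀ k, bit x (D.g k) = 0) : x ∈ scalars ι₄ F := by
  obtain ⟨c, hc⟩ := D.scalar_mem_center h (u := x) fun k => bit_eq_zero.1 (hb k)
  refine (mem_scalars_iff x).2 ⟨Units.mk0 c ?_, hc⟩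
  rintro rfl
  exact x.ne_zero (by rw [show (x : Matrix ι₄ ι₄ F) = _ from hc, zero_smul])

include hR

theorem eq_of_bits {x y : GL ι₄ F} (hx : x ∈ R) (hy : y ∈ R) (hb : ∀ k, bit x (D.g k) = bit y (D.g k)) :
    x = y ∨ x = -y := by
  have hm := R.mul_mem (R.inv_mem hy) hx
  have hs : y⁻¹ * x ∈ scalars ι₄ F := scalar_of_bits h D hm fun k => by
    have e := (ctx_data h).bit_mul hy hm (D.mem k)
    rw [mul_inv_cancel_left, hb k] at e
    exact (left_eq_add.1 e)
  rcases scalar_sp (by norm_num) hs (hR hm) with e | e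
  · exact Or.inl (inv_mul_eq_one.1 e).symm
  · exact Or.inr (by rw [inv_mul_eq_iff_eq_mul] at e; rw [e, mul_neg, mul_one])

/-- The elements of the small group in terms of the five involutions. -/
theorem cases_g {x : GL ι₄ F} (hx : x ∈ R) :
    (x = 1 ∨ x = -1) ∨ (∃ j, x = D.g j ∨ x = -D.g j) ∨
      ∃ i j, i ≠ j ∧ (x = D.g i * D.g j ∨ x = -(D.g i * D.g j)) := by
  have D' := ctx_data h
  have m : ∀ i, D.g i ∈ R := D.mem
  have hP : D.g 0 * D.g 1 * D.g 2 * D.g 3 * D.g 4 ∈ R :=
    R.mul_mem (R.mul_mem (R.mul_mem (R.mul_mem (m 0) (m 1)) (m 2)) (m 3)) (m 4)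
  have hPb : ∀ {y}, y ∈ R → bit (D.g 0 * D.g 1 * D.g 2 * D.g 3 * D.g 4) y =
      bit (D.g 0) y + bit (D.g 1) y + bit (D.g 2) y + bit (D.g 3) y + bit (D.g 4) y := fun {y} hy => by
    rw [D'.bit_mul (R.mul_mem (R.mul_mem (R.mul_mem (m 0) (m 1)) (m 2)) (m 3)) (m 4) hy,
      D'.bit_mul (R.mul_mem (R.mul_mem (m 0) (m 1)) (m 2)) (m 3) hy,
      D'.bit_mul (R.mul_mem (m 0) (m 1)) (m 2) hy, D'.bit_mul (m 0) (m 1) hy]
  have hPs : D.g 0 * D.g 1 * D.g 2 * D.g 3 * D.g 4 ∈ scalars ι₄ F := scalar_of_bits h D hP fun k => by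
    rw [hPb (m k), bit_g h D, bit_g h D, bit_g h D, bit_g h D, bit_g h D]
    exact (by decide : ∀ k : Fin 5, ((if (0 : Fin 5) = k then (0 : ZMod 2) else 1) + (if (1 : Fin 5) = k then 0 else 1) +
      (if (2 : Fin 5) = k then 0 else 1) + (if (3 : Fin 5) = k then 0 else 1) +
      (if (4 : Fin 5) = k then 0 else 1)) = 0) k
  have hsum := hPb hx
  rw [bit_eq_zero.2 (scalar_comm hPs x)] at hsum
  simp only [bit_comm (D.g _) x] at hsum
  rcases even_cases (fun k => bit x (D.g k)) hsum.symm with hb | ⟨j, hb⟩ | ⟨i, j, hij, hb⟩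
  · exact Or.inl (scalar_sp (by norm_num) (scalar_of_bits h D hx hb) (hR hx))
  · exact Or.inr (Or.inl ⟨j, eq_of_bits h D hR hx (m j) fun k => by rw [bit_g h D]; exact hb k⟩)
  · refine Or.inr (Or.inr ⟨i, j, hij, eq_of_bits h D hR hx (R.mul_mem (m i) (m j)) fun k => ?_⟩)
    rw [D'.bit_mul (m i) (m j) (m k), bit_g h D, bit_g h D]
    exact hb k

/-- An involution is one of the five up to sign. -/
theorem involution_g {x : GL ι₄ F} (hx : x ∈ R) (hns : x ∉ scalars ι₄ F) (hx2 : x * x = 1) :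
    ∃ j, x = D.g j ∨ x = -D.g j := by
  rcases cases_g h D hR hx with (e | e) | h' | ⟨i, j, hij, e | e⟩
  · exact absurd (e ▸ one_mem _) hns
  · exact absurd (e ▸ neg_one_mem_scalars) hns
  · exact h'
  all_goals
    exfalso
    refine ne_neg h.two (1 : GL ι₄ F) ?_
    rw [e] at hx2
    try simp only [neg_mul_neg] at hx2
    rw [mul_assoc, ← mul_assoc (D.g j), D.anti j i hij.symm, neg_mul, mul_assoc (D.g i), D.sq, mul_one, mul_neg,
      D.sq] at hx2
    exact hx2.symm

/-- A square root of `-1` is a product of two of the five up to sign. -/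
theorem root_g {x : GL ι₄ F} (hx : x ∈ R) (hx2 : x * x = -1) :
    ∃ i j, i ≠ j ∧ (x = D.g i * D.g j ∨ x = -(D.g i * D.g j)) := by
  rcases cases_g h D hR hx with (e | e) | ⟨j, e | e⟩ | h'
  all_goals first
    | exact h'
    | (exfalso; refine ne_neg h.two (1 : GL ι₄ F) ?_; rw [e] at hx2; simpa [D.sq] using hx2)

omit hR

/-- The three-cycles are induced in the normaliser. -/
theorem exists_cycle (hR' : R ≤ Cfsg.spGL 2 F) {i j k : Fin 5} (hij : i ≠ j) (hik : i ≠ k) (hjk : j ≠ k) :
    ∃ T ∈ subgroupNormalizer R ⊓ Cfsg.spGL 2 F, ∀ v, T * D.g v * T⁻¹ = D.g (cyc i j k v) := by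
  obtain ⟨T, hT⟩ := SympFour.exists_triple h.two h.card4 (D.sq i) (D.sq j) (D.sq k) (D.anti i j hij)
    (D.anti i k hik) (D.anti j k hjk)
  have hmap : ∀ v, T * D.g v * T⁻¹ = D.g (cyc i j k v) := fun v => by
    by_cases e1 : v = i
    · rw [e1, hT.map_a, mul_inv_cancel_right, cyc, if_pos rfl]
    by_cases e2 : v = j
    · rw [e2, hT.map_b, mul_inv_cancel_right, cyc, if_neg hij.symm, if_pos rfl]
    by_cases e3 : v = k
    · rw [e3, hT.map_c, mul_inv_cancel_right, cyc, if_neg hik.symm, if_neg hjk.symm, if_pos rfl]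
    rw [cyc, if_neg e1, if_neg e2, if_neg e3,
      hT.fix _ (Or.inl ⟨D.anti i v (Ne.symm e1), D.anti j v (Ne.symm e2), D.anti k v (Ne.symm e3)⟩),
      mul_inv_cancel_right]
  refine ⟨T, ⟨D.mem_normalizer h fun v => by rw [hmap]; exact D.mem _, ?_⟩, hmap⟩
  exact hT.iso _ (SympFour.sform_symp 2) (hR' (D.mem i)) (hR' (D.mem j)) (hR' (D.mem k))

end Five

/-- The groups `2^{1+6}₋` in coordinates. -/
structure Eight (R : Subgroup (GL (ι₄ ⊕ ι₄) F)) : Prop where
  split : Split R
  le : R ≤ pairSp F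
  card : Nat.card R = 128
  minus : IsOfMinusType 3 R

variable [Finite F] {R : Subgroup (GL (ι₄ ⊕ ι₄) F)} (E : Eight R)
include E

theorem Eight.small_le : small R ≤ Cfsg.spGL 2 F := fun _ ha => (bd_mem_pairSp.1 (E.le ha)).1

theorem Eight.small_card : Nat.card (small R) = 32 := by
  have := E.split.card_eq
  rw [E.card] at this
  omega

theorem Eight.small_center : Nat.card (Subgroup.center (small R)) = 2 := by
  classical
  have D := E.split.small_data
  have h1 : (fun z : Subgroup.center (small R) => ((z : small R) : GL ι₄ F)) '' Set.univ = {1, -1} := by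
    ext z
    simp only [Set.image_univ, Set.mem_range, Set.mem_insert_iff, Set.mem_singleton_iff]
    constructor
    · rintro ⟨z, rfl⟩
      exact scalar_sp (by norm_num) (D.scalar_of_comm fun y hy =>
        (congrArg Subtype.val (Subgroup.mem_center_iff.1 z.2 ⟨y, hy⟩)).symm) (E.small_le (z : small R).2)
    · rintro (rfl | rfl)
      · exact ⟨1, rfl⟩
      · exact ⟨⟨⟨-1, D.neg⟩, Subgroup.mem_center_iff.2 fun g => Subtype.ext
          (scalar_comm neg_one_mem_scalars (g : GL ι₄ F)).symm⟩, rfl⟩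
  rw [← Set.ncard_univ, ← Set.ncard_image_of_injective _ (fun a b e => Subtype.ext (Subtype.ext e)), h1,
    Set.ncard_pair (ne_neg D.two _)]

theorem Eight.ctx : SympFour.Ctx (small R) :=
  have D := E.split.small_data
  { two := D.two
    card4 := by simp
    absIrred := D.abs
    fin := inferInstance
    negMem := D.neg
    sq := D.sq
    comm := D.comm
    card := by rw [E.small_card, E.small_center] }

theorem Eight.small_minus : IsOfMinusType 2 (small R) := by
  intro A hA hA2
  classical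
  by_contra hle
  push Not at hle
  have hc : ∀ (a : small R), a ∈ A → bd ((a : GL ι₄ F), (a : GL ι₄ F)) ∈ R := fun a _ => mem_small.1 a.2
  let K : Subgroup R :=
    { carrier := {x | ∃ a ∈ A, (x : GL (ι₄ ⊕ ι₄) F) = bd ((a : GL ι₄ F), (a : GL ι₄ F)) ∨
        (x : GL (ι₄ ⊕ ι₄) F) = bd ((a : GL ι₄ F), -(a : GL ι₄ F))}
      one_mem' := ⟨1, A.one_mem, Or.inl (map_one bd).symm⟩
      mul_mem' := by
        rintro x y ⟨a, ha, hx⟩ ⟨b, hb, hy⟩
        refine ⟨a * b, A.mul_mem ha hb, ?_⟩
        rcases hx with hx | hx <;> rcases hy with hy | hy <;>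
          simp [Subgroup.coe_mul, hx, hy, bd_mul]
      inv_mem' := by
        rintro x ⟨a, ha, hx⟩
        refine ⟨a, ha, ?_⟩
        have e : (a : GL ι₄ F) * a = 1 := congrArg Subtype.val (hA2 a ha)
        have e' : (a : GL ι₄ F)⁻¹ = a := inv_eq_of_mul_eq_one_right e
        rcases hx with hx | hx
        · exact Or.inl (by simp [hx, bd_inv, e'])
        · exact Or.inr (by
            rw [Subgroup.coe_inv, hx, bd_inv, e', inv_eq_of_mul_eq_one_right (show -(a : GL ι₄ F) * -a = 1 by
              rw [neg_mul_neg, e])]) }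
  have hKc : IsMulCommutative K := ⟨⟨fun x y => Subtype.ext (Subtype.ext (by
    obtain ⟨a, ha, hx⟩ := x.2
    obtain ⟨b, hb, hy⟩ := y.2
    have e : (a : GL ι₄ F) * b = b * a := congrArg (fun z : A => ((z : small R) : GL ι₄ F))
      (hA.is_comm.comm ⟨a, ha⟩ ⟨b, hb⟩)
    rcases hx with hx | hx <;> rcases hy with hy | hy <;>
      simp [Subgroup.coe_mul, hx, hy, bd_mul, e]))⟩⟩
  have hK2 : ∀ x ∈ K, x * x = 1 := by
    rintro x ⟨a, ha, hx⟩
    have e : (a : GL ι₄ F) * a = 1 := congrArg Subtype.val (hA2 a ha)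
    refine Subtype.ext ?_
    rw [Subgroup.coe_mul, OneMemClass.coe_one]
    rcases hx with hx | hx <;> simp [hx, bd_mul, e, neg_mul_neg]
    all_goals exact map_one bd
  have hlt := E.minus K hKc hK2
  let f : A × Bool → K := fun p => cond p.2
    ⟨⟨bd (((p.1 : small R) : GL ι₄ F), ((p.1 : small R) : GL ι₄ F)), hc _ p.1.2⟩, p.1, p.1.2, Or.inl rfl⟩
    ⟨⟨bd (((p.1 : small R) : GL ι₄ F), -((p.1 : small R) : GL ι₄ F)), E.split.sign_mem (p.1 : small R).2⟩,
      p.1, p.1.2, Or.inr rfl⟩
  have hf : Function.Injective f := by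
    rintro ⟨a, e⟩ ⟨b, e'⟩ hab
    have h' := congrArg (fun z : K => ((z : R) : GL (ι₄ ⊕ ι₄) F)) hab
    cases e <;> cases e' <;> simp only [f, cond_true, cond_false, bd_inj] at h'
    · rw [show a = b from Subtype.ext (Subtype.ext h'.1)]
    · exact absurd (h'.2.symm.trans (congrArg (fun t : GL ι₄ F => -t) h'.1)) (ne_neg E.split.small_data.two _)
    · exact absurd (h'.2.trans (congrArg (fun t : GL ι₄ F => -t) h'.1.symm)) (ne_neg E.split.small_data.two _)
    · rw [show a = b from Subtype.ext (Subtype.ext h'.1)]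
  have := Nat.card_le_card_of_injective f hf
  rw [Nat.card_prod, Nat.card_eq_fintype_card (α := Bool), Fintype.card_bool] at this
  norm_num at hlt hle
  omega

/-- The small group is of symplectic type. -/
theorem Eight.small_symplecticType : IsSymplecticTypeGroup 2 (small R) := by
  classical
  have D := E.split.small_data
  obtain ⟨G⟩ := SympFour.exists_five_minus E.ctx E.small_minus
  have h4 : ∀ x ∈ small R, x ^ 4 = 1 := fun x hx => by
    rcases D.sq x hx with e | e <;> simp [pow_succ, mul_assoc, e]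
  have hg : ∀ i j, i ≠ j → G.g i * G.g j * (G.g i * G.g j) = -1 := fun i j hij => by
    rw [mul_assoc, ← mul_assoc (G.g j), G.anti j i hij.symm, neg_mul, mul_assoc (G.g i), G.sq, mul_one, mul_neg, G.sq]
  refine ⟨Nat.prime_two, fun x => ⟨2, Subtype.ext (by simpa using h4 x x.2)⟩, fun A hA hAc => ?_, ?_⟩
  · have hscal : ∀ a ∈ A, (a : GL ι₄ F) = 1 ∨ (a : GL ι₄ F) = -1 := by
      intro a ha
      refine scalar_sp (by norm_num) ?_ (E.small_le a.2)
      by_contra hns
      obtain ⟨c, hc, hc2, hac⟩ : ∃ c ∈ small R, c * c = -1 ∧ c * (a : GL ι₄ F) = -((a : GL ι₄ F) * c) := by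
        obtain ⟨k, hk⟩ : ∃ k, bit (a : GL ι₄ F) (G.g k) = 1 := by
          by_contra h'
          push Not at h'
          exact hns (scalar_of_bits E.ctx G a.2 fun k => (by decide : ∀ c : ZMod 2, c ≠ 1 → c = 0) _ (h' k))
        obtain ⟨l, hl⟩ : ∃ l, bit (a : GL ι₄ F) (G.g l) = 0 := by
          rcases cases_g E.ctx G E.small_le a.2 with (e | e) | ⟨j, e | e⟩ | ⟨i, j, hij, e | e⟩
          · exact absurd (e ▸ one_mem _) hns
          · exact absurd (e ▸ neg_one_mem_scalars) hns
          · exact ⟨j, by rw [e, bit_self]⟩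
          · exact ⟨j, bit_eq_zero.2 (by rw [e, neg_mul, mul_neg])⟩
          all_goals
            obtain ⟨l, hl⟩ := (by decide : ∀ i j : Fin 5, ∃ l, l ≠ i ∧ l ≠ j) i j
            refine ⟨l, ?_⟩
            rw [e]
            try rw [← neg_one_mul, bit_scalar_left neg_one_mem_scalars]
            rw [D.bit_mul (G.mem i) (G.mem j) (G.mem l), bit_g E.ctx G, bit_g E.ctx G, if_neg hl.1.symm,
              if_neg hl.2.symm]
            rfl
        have hkl : k ≠ l := fun e => by rw [e, hl] at hk; exact zero_ne_one hk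
        refine ⟨G.g k * G.g l, (small R).mul_mem (G.mem k) (G.mem l), hg k l hkl, ?_⟩
        refine (D.bit_eq_one ((small R).mul_mem (G.mem k) (G.mem l)) a.2).1 ?_
        rw [D.bit_mul (G.mem k) (G.mem l) a.2, bit_comm, hk, bit_comm, hl, add_zero]
      obtain ⟨t, ht⟩ := D.exists_tv hc2
      have htn := D.tv_normalizer ht hc hc2
      let α : small R ≃* small R :=
        { toFun := fun x => ⟨t * x * t⁻¹, (Subgroup.mem_normalizer_iff.1 htn x).1 x.2⟩
          invFun := fun x => ⟨t⁻¹ * x * t, by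
            have := (Subgroup.mem_normalizer_iff.1 ((subgroupNormalizer (small R)).inv_mem htn) x).1 x.2
            rwa [inv_inv] at this⟩
          left_inv := fun x => Subtype.ext (show t⁻¹ * (t * x * t⁻¹) * t = x by group)
          right_inv := fun x => Subtype.ext (show t * (t⁻¹ * x * t) * t⁻¹ = x by group)
          map_mul' := fun x y => Subtype.ext (by
            show t * ((x : GL ι₄ F) * (y : GL ι₄ F)) * t⁻¹ = t * x * t⁻¹ * (t * y * t⁻¹)
            group) }
      have hαa : α a ∈ A := by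
        rw [← hA.fixed α] at ha
        exact ha
      have h := congrArg (fun z : A => ((z : small R) : GL ι₄ F)) (hAc.is_comm.comm ⟨a, ha⟩ ⟨α a, hαa⟩)
      change (a : GL ι₄ F) * (t * a * t⁻¹) = t * a * t⁻¹ * a at h
      rw [tv_anti ht hc2 hac, mul_inv_cancel_right, ← mul_assoc (a : GL ι₄ F) c (a : GL ι₄ F),
        show (a : GL ι₄ F) * c = -(c * a) by rw [hac, neg_neg], neg_mul] at h
      exact ne_neg D.two _ h.symm
    let f : A →* F :=
      { toFun := fun a => mat ((a : small R) : GL ι₄ F) (Sum.inl 0) (Sum.inl 0)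
        map_one' := by simp
        map_mul' := fun a b => by
          rcases hscal a a.2 with e | e <;> rcases hscal b b.2 with e' | e' <;> simp [e, e'] }
    refine isCyclic_of_subgroup_isDomain f fun a b h => Subtype.ext (Subtype.ext ?_)
    have hne1 : (1 : F) ≠ -1 := fun h => D.two (by linear_combination h)
    rcases hscal a a.2 with e | e <;> rcases hscal b b.2 with e' | e' <;>
      simp [f, e, e', hne1, hne1.symm] at h ⊢
  · refine Nat.dvd_antisymm (Monoid.exponent_dvd_of_forall_pow_eq_one fun x => Subtype.ext (by simpa using h4 x x.2)) ?_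
    have hv : G.g 0 * G.g 1 ∈ small R := (small R).mul_mem (G.mem 0) (G.mem 1)
    have h : orderOf (⟨_, hv⟩ : small R) = 4 := by
      refine orderOf_eq_prime_pow (p := 2) (n := 1) ?_ (Subtype.ext (by simpa using h4 _ hv))
      intro h
      have := congrArg Subtype.val h
      rw [pow_one, pow_two, Subgroup.coe_mul] at this
      simp only [hg 0 1 (by decide), OneMemClass.coe_one] at this
      exact ne_neg D.two _ this.symm
    have := h ▸ Monoid.order_dvd_exponent (⟨_, hv⟩ : small R)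
    simpa using this

/-- The base: the normaliser of the small group is maximal in `Sp₄(p)`. -/
theorem Eight.base [Fintype F] (hp : (Fintype.card F).Prime) :
    IsMaximalIn (Cfsg.spGL 2 F) (subgroupNormalizer (small R) ⊓ Cfsg.spGL 2 F) := by
  classical
  have D := E.split.small_data
  obtain ⟨φ, hφ, hspec⟩ := SpFourOdd.exists_klein (F := F) D.two
  obtain ⟨Dec, hDec, hiff⟩ := SpFourOdd.exists_frame_of_symplecticType D.two E.small_symplecticType D.abs
    E.small_le E.small_card E.small_center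
  have hmax := OrthMono.isMaximalIn_frame_five hDec (by decide) (by simp) (by simp) hp D.two
  rw [StdForms.coe_oddQ] at hmax
  exact SpFourOdd.isMaximalIn_of_omega hφ (hiff φ hspec) hmax

end CfsgLib.SpEight
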